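import Cfsg.Agent.Lib.SLClassNumber.Classes

/-!
The class number bounds for `SL_n(q)` and `PSL_n(q)`.
-/

set_option autoImplicit false

namespace CfsgLib.SLClassNumber

open CfsgLib.GLClassNumber

universe u

variable {F : Type u} [Field F] [Fintype F]

theorem dset_empty_of_two (m : ℕ) : dset 2 m = ∅ := by
  refine Finset.eq_empty_of_forall_notMem fun d hd => ?_
  simp only [dset, Finset.mem_filter, Finset.mem_Icc] at hd
  have := Nat.le_of_dvd (by norm_num) hd.2.1
  omega

theorem wt_le (d : ℕ) : wt d ≤ d ^ 2 := by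
  rw [wt]; split_ifs with h
  · subst h; norm_num
  · omega

theorem bound_le_of_sq (L m q : ℕ) (hq : Fintype.card F = q) :
    bound F L m ≤ q ^ m + ∑ d ∈ dset q m, wt d * nTuple F L (m / d) := by
  rw [bound, hq]
  exact Nat.add_le_add_right (hq ▸ nTuple_le_pow L m) _

/-- A crude bound. -/
theorem bound_le_cube (L m q : ℕ) (hq : Fintype.card F = q) : bound F L m ≤ (q - 1) ^ 3 * q ^ m := by
  have hq2 : 2 ≤ q := hq ▸ Fintype.one_lt_card
  rcases eq_or_lt_of_le hq2 with h | h
  · subst h
    refine (bound_le_of_sq L m 2 hq).trans ?_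
    rw [dset_empty_of_two]; simp
  refine (bound_le_of_sq L m q hq).trans ?_
  have h1 : ∑ d ∈ dset q m, wt d * nTuple F L (m / d) ≤ (Finset.Icc 2 (q - 1)).card * ((q - 1) ^ 2 * q ^ m) := by
    refine le_trans (Finset.sum_le_sum_of_subset (t := Finset.Icc 2 (q - 1)) fun d hd => ?_) ?_
    · simp only [dset, Finset.mem_filter, Finset.mem_Icc] at hd ⊢
      exact ⟨hd.1.1, Nat.le_of_dvd (by omega) hd.2.1⟩
    · rw [← smul_eq_mul]
      refine Finset.sum_le_card_nsmul _ _ _ fun d hd => ?_
      refine Nat.mul_le_mul ((wt_le d).trans (Nat.pow_le_pow_left (Finset.mem_Icc.mp hd).2 2)) ?_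
      exact (hq ▸ nTuple_le_pow L (m / d)).trans (Nat.pow_le_pow_right (by omega) (Nat.div_le_self m d))
  rw [Nat.card_Icc] at h1
  obtain ⟨r, rfl⟩ : ∃ r, q = r + 3 := ⟨q - 3, by omega⟩
  rw [show r + 3 - 1 + 1 - 2 = r + 1 by omega] at h1
  rw [show r + 3 - 1 = r + 2 by omega] at h1 ⊢
  nlinarith [Nat.zero_le ((r + 3) ^ m), Nat.zero_le (r * (r + 3) ^ m)]

theorem bound_two (L q : ℕ) (hL : 2 ≤ L) (hq : Fintype.card F = q) :
    bound F L 2 ≤ q ^ 2 - 1 + 3 * (q - 1) := by
  rw [bound, hq]
  refine Nat.add_le_add ((nTuple_small L).2.1 hL |>.trans (by rw [hq])) ?_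
  refine le_trans (Finset.sum_le_sum_of_subset (t := ({2} : Finset ℕ)) fun d hd => ?_) ?_
  · simp only [dset, Finset.mem_filter, Finset.mem_Icc] at hd
    simp only [Finset.mem_singleton]
    omega
  · rw [Finset.sum_singleton]
    have := (nTuple_small (F := F) L).1 (by omega)
    rw [hq] at this
    simp only [wt, show (2 : ℕ) ≠ 4 by omega, if_false]
    norm_num
    omega

theorem bound_one (L q : ℕ) (hL : 1 ≤ L) (hq : Fintype.card F = q) : bound F L 1 ≤ q - 1 := by
  rw [bound, hq, show dset q 1 = ∅ by simp [dset]]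
  simpa [hq] using (nTuple_small (F := F) L).1 hL

theorem bound_three (L q : ℕ) (hL : 3 ≤ L) (hq : Fintype.card F = q) :
    bound F L 3 ≤ q ^ 3 - q + (if 3 ∣ q - 1 then 8 * (q - 1) else 0) := by
  rw [bound, hq]
  refine Nat.add_le_add ((nTuple_small L).2.2 hL |>.trans (by rw [hq])) ?_
  have hsub : dset q 3 ⊆ if 3 ∣ q - 1 then ({3} : Finset ℕ) else ∅ := fun d hd => by
    simp only [dset, Finset.mem_filter, Finset.mem_Icc] at hd
    obtain ⟨⟨h2, h3⟩, hq', hd3⟩ := hd
    obtain rfl : d = 3 := by
      interval_cases d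
      · norm_num at hd3
      · rfl
    rw [if_pos hq']; simp
  refine le_trans (Finset.sum_le_sum_of_subset hsub) ?_
  split_ifs
  · rw [Finset.sum_singleton]
    have := (nTuple_small (F := F) L).1 (by omega)
    rw [hq] at this
    simp only [wt, show (3 : ℕ) ≠ 4 by omega, if_false]
    norm_num
    omega
  · simp

theorem bound_four (L q : ℕ) (hL : 4 ≤ L) (hq : Fintype.card F = q) :
    bound F L 4 ≤ q ^ 4 + (if 2 ∣ q - 1 then 3 * (q ^ 2 - 1) else 0) + (if 4 ∣ q - 1 then 12 * (q - 1) else 0) := by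
  refine (bound_le_of_sq L 4 q hq).trans ?_
  rw [add_assoc]
  refine Nat.add_le_add_left ?_ _
  have hsub : dset q 4 ⊆ ({2, 4} : Finset ℕ).filter fun d => d ∣ q - 1 := fun d hd => by
    simp only [dset, Finset.mem_filter, Finset.mem_Icc] at hd
    obtain ⟨⟨h2, h4⟩, hq', hd4⟩ := hd
    simp only [Finset.mem_filter, Finset.mem_insert, Finset.mem_singleton]
    refine ⟨?_, hq'⟩
    interval_cases d
    · exact Or.inl rfl
    · norm_num at hd4
    · exact Or.inr rfl
  refine le_trans (Finset.sum_le_sum_of_subset hsub) ?_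
  rw [Finset.sum_filter, Finset.sum_pair (by norm_num : (2 : ℕ) ≠ 4)]
  have h1 := (nTuple_small (F := F) L).1 (by omega)
  have h2 := (nTuple_small (F := F) L).2.1 (by omega)
  rw [hq] at h1 h2
  refine Nat.add_le_add ?_ ?_
  · split_ifs
    · simp only [wt, show (2 : ℕ) ≠ 4 by omega, if_false]
      norm_num
      omega
    · simp
  · split_ifs
    · simp only [wt, if_true]
      norm_num
      omega
    · simp

/-- The main bound. -/
theorem bound_main (L m q : ℕ) (hm : 3 ≤ m) (hL : m ≤ L) (hq : Fintype.card F = q) :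
    bound F L m + 3 * q ^ (m - 2) ≤ q ^ m + 2 * q ^ (m - 1) := by
  have hq2 : 2 ≤ q := hq ▸ Fintype.one_lt_card
  rcases eq_or_lt_of_le hq2 with h | h
  · subst h
    have := bound_le_of_sq (F := F) L m 2 hq
    rw [dset_empty_of_two, Finset.sum_empty] at this
    obtain ⟨j, rfl⟩ : ∃ j, m = j + 2 := ⟨m - 2, by omega⟩
    simp only [show j + 2 - 1 = j + 1 by omega, Nat.add_sub_cancel, pow_succ] at *
    omega
  rcases Nat.lt_or_ge m 5 with hm5 | hm5
  · interval_cases m
    · have := bound_three (F := F) L q hL hq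
      obtain ⟨r, rfl⟩ : ∃ r, q = r + 3 := ⟨q - 3, by omega⟩
      rw [show (r + 3) ^ 3 - (r + 3) = r ^ 3 + 9 * r ^ 2 + 26 * r + 24 by
        rw [show (r + 3) ^ 3 = r ^ 3 + 9 * r ^ 2 + 26 * r + 24 + (r + 3) by ring, Nat.add_sub_cancel]] at this
      split_ifs at this with h3
      · have hr : 1 ≤ r := by
          rcases Nat.eq_zero_or_pos r with rfl | hr
          · norm_num at h3
          · exact hr
        simp only [show r + 3 - 1 = r + 2 by omega] at this
        norm_num
        nlinarith
      · norm_num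
        nlinarith
    · have := bound_four (F := F) L q hL hq
      obtain ⟨r, rfl⟩ : ∃ r, q = r + 3 := ⟨q - 3, by omega⟩
      rw [show (r + 3) ^ 2 - 1 = r ^ 2 + 6 * r + 8 by
        rw [show (r + 3) ^ 2 = r ^ 2 + 6 * r + 8 + 1 by ring, Nat.add_sub_cancel],
        show r + 3 - 1 = r + 2 by omega] at this
      norm_num
      split_ifs at this with h2 h4 h4
      · have hr : 2 ≤ r := by
          by_contra h'
          interval_cases r <;> norm_num at h4
        nlinarith
      all_goals nlinarith
  · -- the divisor two and the others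
    have h1 : ∑ d ∈ dset q m, wt d * nTuple F L (m / d) ≤
        4 * q ^ (m - 3) + (q - 1) ^ 3 * q ^ (m - 4) := by
      have hpow : ∀ d, nTuple F L (m / d) ≤ q ^ (m / d) := fun d => hq ▸ nTuple_le_pow L (m / d)
      have hsub : dset q m ⊆ ((({2} : Finset ℕ).filter fun d => d ∣ m) ∪ Finset.Icc 3 (q - 1)) := fun d hd => by
        simp only [dset, Finset.mem_filter, Finset.mem_Icc] at hd
        simp only [Finset.mem_union, Finset.mem_filter, Finset.mem_singleton, Finset.mem_Icc]
        rcases eq_or_lt_of_le hd.1.1 with h2 | h2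
        · exact Or.inl ⟨h2.symm, hd.2.2⟩
        · exact Or.inr ⟨h2, Nat.le_of_dvd (by omega) hd.2.1⟩
      refine (Finset.sum_le_sum_of_subset hsub).trans ?_
      rw [Finset.sum_union (by
        rw [Finset.disjoint_left]
        intro d hd hd'
        simp only [Finset.mem_filter, Finset.mem_singleton] at hd
        simp only [Finset.mem_Icc] at hd'
        omega)]
      refine Nat.add_le_add ?_ ?_
      · rw [Finset.sum_filter, Finset.sum_singleton]
        split_ifs with h2
        · refine Nat.mul_le_mul (by simp [wt]) ((hpow 2).trans (Nat.pow_le_pow_right (by omega) ?_))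
          obtain ⟨j, rfl⟩ := h2
          omega
        · exact Nat.zero_le _
      · calc ∑ d ∈ Finset.Icc 3 (q - 1), wt d * nTuple F L (m / d)
            ≤ (Finset.Icc 3 (q - 1)).card • ((q - 1) ^ 2 * q ^ (m - 4)) := by
              refine Finset.sum_le_card_nsmul _ _ _ fun d hd => ?_
              refine Nat.mul_le_mul ((wt_le d).trans (Nat.pow_le_pow_left (Finset.mem_Icc.mp hd).2 2))
                ((hpow d).trans (Nat.pow_le_pow_right (by omega) ?_))
              exact le_trans (Nat.div_le_div_left (Finset.mem_Icc.mp hd).1 (by norm_num)) (by omega)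
          _ ≤ (q - 1) ^ 3 * q ^ (m - 4) := by
              rw [smul_eq_mul, Nat.card_Icc, ← mul_assoc]
              refine Nat.mul_le_mul_right _ ?_
              rw [pow_succ (q - 1) 2, mul_comm]
              exact Nat.mul_le_mul_left _ (by omega)
    have h2 := bound_le_of_sq (F := F) L m q hq
    obtain ⟨r, rfl⟩ : ∃ r, q = r + 3 := ⟨q - 3, by omega⟩
    obtain ⟨j, rfl⟩ : ∃ j, m = j + 4 := ⟨m - 4, by omega⟩
    simp only [show j + 4 - 3 = j + 1 by omega, show j + 4 - 4 = j by omega, show j + 4 - 2 = j + 2 by omega,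
      show j + 4 - 1 = j + 3 by omega, show r + 3 - 1 = r + 2 by omega] at *
    have hkey : 4 * (r + 3) + (r + 2) ^ 3 + 3 * (r + 3) ^ 2 ≤ 2 * (r + 3) ^ 3 := by nlinarith
    have h3 := Nat.mul_le_mul_right ((r + 3) ^ j) hkey
    simp only [pow_add, pow_one] at *
    nlinarith

variable {n : ℕ}

theorem sl_bound (hn : 2 ≤ n) :
    2 * Nat.card (ConjClasses (Matrix.SpecialLinearGroup (Fin n) F)) ≤ 5 * Fintype.card F ^ (n - 1) ∧
      (3 ≤ n → Nat.card (ConjClasses (Matrix.SpecialLinearGroup (Fin n) F)) ≤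
        Fintype.card F ^ (n - 1) + 3 * Fintype.card F ^ (n - 2)) := by
  set q := Fintype.card F with hq
  have hq2 : 2 ≤ q := hq ▸ Fintype.one_lt_card
  set k := Nat.card (ConjClasses (Matrix.SpecialLinearGroup (Fin n) F))
  have hk : (q - 1) * k ≤ bound F n n := card_sl_classes_le (by omega)
  have hmain : 3 ≤ n → k ≤ q ^ (n - 1) + 3 * q ^ (n - 2) := fun h3 => by
    refine Nat.le_of_mul_le_mul_left ?_ (show 0 < q - 1 by omega)
    have h1 := bound_main (F := F) n n q h3 le_rfl hq.symm
    obtain ⟨j, rfl⟩ : ∃ j, n = j + 2 := ⟨n - 2, by omega⟩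
    simp only [show j + 2 - 1 = j + 1 by omega, Nat.add_sub_cancel] at *
    refine Nat.le_of_add_le_add_right (b := 3 * q ^ j) ((Nat.add_le_add_right hk _).trans (h1.trans ?_))
    obtain ⟨r, hr⟩ : ∃ r, q = r + 2 := ⟨q - 2, by omega⟩
    rw [hr, show r + 2 - 1 = r + 1 by omega]
    simp only [pow_succ]
    nlinarith
  refine ⟨?_, hmain⟩
  rcases Nat.lt_or_ge n 3 with h | h
  · obtain rfl : n = 2 := by omega
    have h1 := bound_two (F := F) 2 q le_rfl hq.symm
    have h2 : k ≤ q + 4 := by
      refine Nat.le_of_mul_le_mul_left (hk.trans (h1.trans ?_)) (show 0 < q - 1 by omega)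
      obtain ⟨r, hr⟩ : ∃ r, q = r + 2 := ⟨q - 2, by omega⟩
      rw [hr, show r + 2 - 1 = r + 1 by omega, show (r + 2) ^ 2 - 1 = r ^ 2 + 4 * r + 3 by
        rw [show (r + 2) ^ 2 = r ^ 2 + 4 * r + 3 + 1 by ring, Nat.add_sub_cancel]]
      nlinarith
    rcases eq_or_lt_of_le hq2 with h3 | h3
    · have h4 := bound_le_of_sq (F := F) 2 2 2 (hq.symm.trans h3.symm)
      rw [dset_empty_of_two, Finset.sum_empty] at h4
      rw [← h3] at hk ⊢
      simp only [show 2 - 1 = 1 from rfl, one_mul, pow_one] at hk ⊢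
      omega
    · simp only [show 2 - 1 = 1 from rfl, pow_one]
      omega
  · have h1 := hmain h
    obtain ⟨j, rfl⟩ : ∃ j, n = j + 2 := ⟨n - 2, by omega⟩
    simp only [show j + 2 - 1 = j + 1 by omega, Nat.add_sub_cancel, pow_succ] at *
    have := Nat.mul_le_mul_left (q ^ j) hq2
    omega

theorem card_order_two_le (hn : 0 < n) [Fintype (Subgroup.center (Matrix.SpecialLinearGroup (Fin n) F))] :
    (Finset.univ.filter fun z : Subgroup.center (Matrix.SpecialLinearGroup (Fin n) F) => orderOf z = 2).card ≤ 1 := by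
  classical
  refine Finset.card_le_one.mpr fun a ha b hb => ?_
  simp only [Finset.mem_filter, Finset.mem_univ, true_and] at ha hb
  have key : ∀ z : Subgroup.center (Matrix.SpecialLinearGroup (Fin n) F), orderOf z = 2 →
      Matrix.SpecialLinearGroup.toGL (z : Matrix.SpecialLinearGroup (Fin n) F) = sc n (-1 : Fˣ) := fun z hz => by
    obtain ⟨c, hc, -, hco⟩ := exists_scalar z hn
    rw [hc]
    congr 1
    rw [hz] at hco
    have h2 : (c : F) * c = 1 := by
      rw [← Units.val_mul, ← sq, ← hco, pow_orderOf_eq_one, Units.val_one]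
    rcases mul_self_eq_one_iff.mp h2 with h | h
    · exfalso
      have : c = 1 := Units.ext h
      rw [this, orderOf_one] at hco
      omega
    · exact Units.ext (by simpa using h)
  exact Subtype.ext (Matrix.SpecialLinearGroup.toGL_injective ((key a ha).trans (key b hb).symm))

theorem psl_bound (hn : 2 ≤ n) :
    Fintype.card F ^ (n - 1) ≤ Nat.gcd n (Fintype.card F - 1) *
        Nat.card (ConjClasses (Matrix.ProjectiveSpecialLinearGroup (Fin n) F)) ∧
    Nat.gcd n (Fintype.card F - 1) *
        Nat.card (ConjClasses (Matrix.ProjectiveSpecialLinearGroup (Fin n) F)) ≤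
      Fintype.card F ^ (n - 1) + 5 * Fintype.card F ^ (n - 2) := by
  classical
  letI instZ : Fintype (Subgroup.center (Matrix.SpecialLinearGroup (Fin n) F)) := Fintype.ofFinite _
  set q := Fintype.card F with hq
  have hq2 : 2 ≤ q := hq ▸ Fintype.one_lt_card
  have hcen := card_center (F := F) (n := n) (by omega)
  rw [← hq] at hcen
  rw [← hcen, card_psl_classes]
  set fx : Subgroup.center (Matrix.SpecialLinearGroup (Fin n) F) → ℕ := fun z => Nat.card {C : ConjClasses (Matrix.SpecialLinearGroup (Fin n) F) // shift z C = C}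
  have hfx1 : fx 1 = Nat.card (ConjClasses (Matrix.SpecialLinearGroup (Fin n) F)) := by
    refine Nat.card_congr (Equiv.subtypeUnivEquiv fun C => ?_)
    obtain ⟨x, rfl⟩ := ConjClasses.exists_rep C
    rw [shift_mk, OneMemClass.coe_one, one_mul]
  refine ⟨?_, ?_⟩
  · refine le_trans (lt_card_sl_classes hn).le ?_
    rw [← hfx1]
    exact Finset.single_le_sum (f := fx) (fun _ _ => Nat.zero_le _) (Finset.mem_univ _)
  refine Nat.le_of_mul_le_mul_left ?_ (show 0 < q - 1 by omega)
  rw [Finset.mul_sum]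
  have hb : ∀ z : Subgroup.center (Matrix.SpecialLinearGroup (Fin n) F), (q - 1) * fx z ≤ bound F n (n / orderOf z) := fun z => card_fixed_le (by omega) z
  refine le_trans (Finset.sum_le_sum fun z _ => hb z) ?_
  rw [← Finset.add_sum_erase _ _ (Finset.mem_univ (1 : Subgroup.center (Matrix.SpecialLinearGroup (Fin n) F))), orderOf_one, Nat.div_one]
  set S := (Finset.univ : Finset (Subgroup.center (Matrix.SpecialLinearGroup (Fin n) F))).erase 1
  have hcardS : S.card + 1 = Nat.gcd n (q - 1) := by
    rw [Finset.card_erase_add_one (Finset.mem_univ _), Finset.card_univ, ← Nat.card_eq_fintype_card, hcen]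
  have hord : ∀ z ∈ S, 2 ≤ orderOf z ∧ orderOf z ∣ Nat.gcd n (q - 1) := fun z hz => by
    refine ⟨?_, hcen ▸ orderOf_dvd_natCard z⟩
    have h0 := orderOf_pos z
    have h1 : orderOf z ≠ 1 := fun h => (Finset.mem_erase.mp hz).1 (orderOf_eq_one_iff.mp h)
    omega
  have hgn : Nat.gcd n (q - 1) ≤ n := Nat.le_of_dvd (by omega) (Nat.gcd_dvd_left _ _)
  have hgq : Nat.gcd n (q - 1) ≤ q - 1 := Nat.le_of_dvd (by omega) (Nat.gcd_dvd_right _ _)
  rcases Nat.lt_or_ge n 3 with h | h
  · obtain rfl : n = 2 := by omega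
    have h1 := bound_two (F := F) 2 q le_rfl hq.symm
    have h2 : ∑ z ∈ S, bound F 2 (2 / orderOf z) ≤ q - 1 := by
      have hc : S.card ≤ 1 := by omega
      refine le_trans (Finset.sum_le_card_nsmul _ _ (q - 1) fun z hz => ?_) ?_
      · obtain ⟨hz2, hzd⟩ := hord z hz
        have : orderOf z ≤ 2 := Nat.le_of_dvd two_pos (hzd.trans (Nat.gcd_dvd_left _ _))
        rw [show orderOf z = 2 by omega]
        exact bound_one (F := F) 2 q (by norm_num) hq.symm
      · rw [smul_eq_mul]
        exact le_trans (Nat.mul_le_mul_right _ hc) (le_of_eq (one_mul _))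
    refine le_trans (Nat.add_le_add h1 h2) ?_
    obtain ⟨r, hr⟩ : ∃ r, q = r + 2 := ⟨q - 2, by omega⟩
    rw [hr, show r + 2 - 1 = r + 1 by omega, show (r + 2) ^ 2 - 1 = r ^ 2 + 4 * r + 3 by
      rw [show (r + 2) ^ 2 = r ^ 2 + 4 * r + 3 + 1 by ring, Nat.add_sub_cancel]]
    norm_num
    nlinarith
  have hmain := bound_main (F := F) n n q h le_rfl hq.symm
  suffices hE : bound F n n + ∑ z ∈ S, bound F n (n / orderOf z) + 5 * q ^ (n - 2) ≤ q ^ n + 4 * q ^ (n - 1) by
    obtain ⟨j, rfl⟩ : ∃ j, n = j + 2 := ⟨n - 2, by omega⟩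
    obtain ⟨r, hr⟩ : ∃ r, q = r + 2 := ⟨q - 2, by omega⟩
    simp only [show j + 2 - 1 = j + 1 by omega, Nat.add_sub_cancel] at *
    rw [hr, show r + 2 - 1 = r + 1 by omega]
    rw [hr] at hE
    simp only [pow_succ] at *
    nlinarith
  rcases Finset.eq_empty_or_nonempty S with hS | ⟨z₀, hz₀⟩
  · rw [hS, Finset.sum_empty, add_zero]
    obtain ⟨j, rfl⟩ : ∃ j, n = j + 2 := ⟨n - 2, by omega⟩
    simp only [show j + 2 - 1 = j + 1 by omega, Nat.add_sub_cancel, pow_succ] at *
    have := Nat.mul_le_mul_left (q ^ j) hq2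
    omega
  obtain ⟨hz₀2, hz₀d⟩ := hord z₀ hz₀
  have hg2 : 2 ≤ Nat.gcd n (q - 1) := le_trans hz₀2 (Nat.le_of_dvd (Nat.gcd_pos_of_pos_left _ (by omega)) hz₀d)
  have hq3 : 3 ≤ q := by omega
  rcases Nat.lt_or_ge n 5 with h5 | h5
  · interval_cases n
    · -- n = 3
      have hz3 : ∀ z ∈ S, orderOf z = 3 := fun z hz => by
        obtain ⟨hz2, hzd⟩ := hord z hz
        rcases (Nat.dvd_prime Nat.prime_three).mp (hzd.trans (Nat.gcd_dvd_left _ _)) with h' | h'
        · omega
        · exact h'
      have h31 : 3 ∣ q - 1 := hz3 z₀ hz₀ ▸ hz₀d.trans (Nat.gcd_dvd_right _ _)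
      have h1 := bound_three (F := F) 3 q le_rfl hq.symm
      rw [if_pos h31] at h1
      have h2 : ∑ z ∈ S, bound F 3 (3 / orderOf z) ≤ 2 * (q - 1) := by
        refine le_trans (Finset.sum_le_card_nsmul _ _ (q - 1) fun z hz => ?_) ?_
        · rw [hz3 z hz]
          exact bound_one (F := F) 3 q (by norm_num) hq.symm
        · rw [smul_eq_mul]
          exact Nat.mul_le_mul_right _ (by omega)
      obtain ⟨r, hr⟩ : ∃ r, q = r + 4 := ⟨q - 4, by
        have := Nat.le_of_dvd (by omega) h31
        omega⟩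
      rw [hr] at h1 h2 ⊢
      rw [show r + 4 - 1 = r + 3 by omega] at h1 h2
      rw [show (r + 4) ^ 3 - (r + 4) = r ^ 3 + 12 * r ^ 2 + 47 * r + 60 by
        rw [show (r + 4) ^ 3 = r ^ 3 + 12 * r ^ 2 + 47 * r + 60 + (r + 4) by ring, Nat.add_sub_cancel]] at h1
      norm_num
      nlinarith
    · -- n = 4
      have h1 := bound_four (F := F) 4 q le_rfl hq.symm
      have h2 : ∑ z ∈ S, bound F 4 (4 / orderOf z) ≤ S.card * (q ^ 2 + 3 * q) := by
        rw [← smul_eq_mul]
        refine Finset.sum_le_card_nsmul _ _ _ fun z hz => ?_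
        obtain ⟨hz2, hzd⟩ := hord z hz
        have h4 : orderOf z ∣ 4 := hzd.trans (Nat.gcd_dvd_left _ _)
        have : orderOf z ≤ 4 := Nat.le_of_dvd (by norm_num) h4
        interval_cases hoz : orderOf z
        · refine (bound_two (F := F) 4 q (by norm_num) hq.symm).trans ?_
          omega
        · norm_num at h4
        · refine (bound_one (F := F) 4 q (by norm_num) hq.symm).trans ?_
          nlinarith [Nat.sub_le q 1]
      rcases Nat.lt_or_ge q 5 with hq5 | hq5
      · have hc : S.card ≤ 1 := by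
          have h3 : q = 3 ∨ q = 4 := by omega
          have g3 : Nat.gcd 4 (3 - 1) = 2 := rfl
          have g4 : Nat.gcd 4 (4 - 1) = 1 := rfl
          rcases h3 with h3 | h3 <;> rw [h3] at hcardS <;> omega
        have h3 : ∑ z ∈ S, bound F 4 (4 / orderOf z) ≤ q ^ 2 + 3 * q :=
          h2.trans (le_trans (Nat.mul_le_mul_right _ hc) (le_of_eq (one_mul _)))
        interval_cases hqq : q <;> norm_num at h1 h3 ⊢ <;> omega
      · have h3 : ∑ z ∈ S, bound F 4 (4 / orderOf z) ≤ 3 * (q ^ 2 + 3 * q) :=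
          h2.trans (Nat.mul_le_mul_right _ (by omega))
        have h4 : bound F 4 4 ≤ q ^ 4 + 3 * q ^ 2 + 12 * q := by
          refine h1.trans ?_
          split_ifs <;> omega
        norm_num
        nlinarith
  · -- n ≥ 5
    have hsplit : ∑ z ∈ S, bound F n (n / orderOf z) ≤ 2 * q ^ (n - 3) + q ^ (n - 1) := by
      rw [← Finset.sum_filter_add_sum_filter_not S (fun z => orderOf z = 2)]
      refine Nat.add_le_add ?_ ?_
      · refine le_trans (Finset.sum_le_card_nsmul _ _ (2 * q ^ (n - 3)) fun z hz => ?_) ?_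
        · simp only [Finset.mem_filter] at hz
          rw [hz.2]
          have h2n : 2 ∣ n := hz.2 ▸ (hord z hz.1).2.trans (Nat.gcd_dvd_left _ _)
          obtain ⟨j, rfl⟩ := h2n
          rw [Nat.mul_div_cancel_left _ two_pos]
          have h1 := bound_main (F := F) (2 * j) j q (by omega) (by omega) hq.symm
          have h2 : 2 * q ^ (j - 1) ≤ q ^ j := by
            obtain ⟨i, rfl⟩ : ∃ i, j = i + 1 := ⟨j - 1, by omega⟩
            rw [Nat.add_sub_cancel, pow_succ, mul_comm]
            exact Nat.mul_le_mul_left _ hq2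
          have h3 : q ^ j ≤ q ^ (2 * j - 3) := Nat.pow_le_pow_right (by omega) (by omega)
          omega
        · rw [smul_eq_mul]
          refine le_trans (Nat.mul_le_mul_right _ ?_) (le_of_eq (one_mul _))
          refine le_trans (Finset.card_le_card ?_) (card_order_two_le (F := F) (n := n) (by omega))
          intro z hz
          simp only [Finset.mem_filter, Finset.mem_univ, true_and] at hz ⊢
          exact hz.2
      · have hc : (S.filter fun z => ¬ orderOf z = 2).card + 1 ≤ Nat.gcd n (q - 1) := by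
          rw [← hcardS]; exact Nat.add_le_add_right (Finset.card_filter_le _ _) _
        have hm3 : ∀ z ∈ S.filter (fun z => ¬ orderOf z = 2), n / orderOf z ≤ n / 3 := fun z hz => by
          simp only [Finset.mem_filter] at hz
          have := (hord z hz.1).1
          exact Nat.div_le_div_left (by omega) (by norm_num)
        rcases Nat.lt_or_ge n 7 with h7 | h7
        · have hb2 : ∀ z ∈ S.filter (fun z => ¬ orderOf z = 2), bound F n (n / orderOf z) ≤ 2 * q ^ 2 := by
            intro z hz
            have h1 := hm3 z hz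
            have h0 : 1 ≤ n / orderOf z := by
              simp only [Finset.mem_filter] at hz
              exact Nat.div_pos (Nat.le_of_dvd (by omega) ((hord z hz.1).2.trans (Nat.gcd_dvd_left _ _))) (orderOf_pos z)
            have h2 : n / orderOf z = 1 ∨ n / orderOf z = 2 := by omega
            rcases h2 with h2 | h2 <;> rw [h2]
            · refine (bound_one (F := F) n q (by omega) hq.symm).trans ?_
              nlinarith [Nat.sub_le q 1]
            · refine (bound_two (F := F) n q (by omega) hq.symm).trans ?_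
              have : 3 * q ≤ q ^ 2 := by rw [sq]; exact Nat.mul_le_mul_right _ hq3
              omega
          refine le_trans (Finset.sum_le_card_nsmul _ _ _ hb2) ?_
          rw [smul_eq_mul]
          refine le_trans (Nat.mul_le_mul_right (2 * q ^ 2) (show _ ≤ 5 by omega)) ?_
          have h10 : 10 * q ^ 2 ≤ q ^ 4 → 10 * q ^ 2 ≤ q ^ (n - 1) := fun h' =>
            h'.trans (Nat.pow_le_pow_right (by omega) (by omega))
          rcases Nat.lt_or_ge q 4 with hq4 | hq4
          · have hqe : q = 3 := by omega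
            rw [hqe] at hgq hc hg2 ⊢
            have g5 : Nat.gcd 5 (3 - 1) = 1 := rfl
            interval_cases n
            · omega
            · norm_num
          · refine le_of_eq_of_le (by ring) (h10 ?_)
            rw [show q ^ 4 = q ^ 2 * q ^ 2 by ring]
            exact Nat.mul_le_mul_right _ (by nlinarith)
        · refine le_trans (Finset.sum_le_card_nsmul _ _ ((q - 1) ^ 3 * q ^ (n - 5)) fun z hz => ?_) ?_
          · refine (bound_le_cube (F := F) n _ q hq.symm).trans (Nat.mul_le_mul_left _ ?_)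
            exact Nat.pow_le_pow_right (by omega) ((hm3 z hz).trans (by omega))
          · rw [smul_eq_mul, ← mul_assoc]
            rw [show q ^ (n - 1) = q ^ 4 * q ^ (n - 5) by rw [← pow_add]; congr 1; omega]
            refine Nat.mul_le_mul_right _ ?_
            rw [show q ^ 4 = q * q ^ 3 by ring]
            exact Nat.mul_le_mul (by omega) (Nat.pow_le_pow_left (Nat.sub_le q 1) 3)
    obtain ⟨j, rfl⟩ : ∃ j, n = j + 3 := ⟨n - 3, by omega⟩
    simp only [show j + 3 - 1 = j + 2 by omega, show j + 3 - 2 = j + 1 by omega, Nat.add_sub_cancel] at *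
    have hkey : 2 * q + 2 ≤ q ^ 2 := by
      rw [sq]
      have := Nat.mul_le_mul_right q hq3
      omega
    have hkey' := Nat.mul_le_mul_right (q ^ j) hkey
    simp only [pow_succ] at *
    nlinarith only [hkey', hmain, hsplit]

end CfsgLib.SLClassNumber
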