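import Cfsg.Agent.Lib.SLClassNumber.Tuples

/-!
Classes of `SL_n` fixed by a central element, and classes of `PSL_n`.
-/

set_option autoImplicit false

namespace CfsgLib.SLClassNumber

open Polynomial CfsgLib.GLClassNumber

universe u

variable {F : Type u} [Field F] {n : ℕ}

theorem scaleP_mul (c : Fˣ) {p r : F[X]} (hp : p ≠ 0) (hr : r ≠ 0) :
    scaleP c (p * r) = scaleP c p * scaleP c r := by
  simp only [scaleP, mul_comp, natDegree_mul hp hr, pow_add, C_mul]
  ring

theorem scaleP_prod [Fintype F] (c : Fˣ) (s : Multiset F[X]) (hs : ∀ p ∈ s, p.Monic ∧ Irreducible p) :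
    scaleP c s.prod = (s.map (scaleP c)).prod := by
  induction s using Multiset.induction with
  | empty => simp [scaleP]
  | cons a s ih =>
    have hs' := fun p hp => hs p (Multiset.mem_cons_of_mem hp)
    rw [Multiset.prod_cons, Multiset.map_cons, Multiset.prod_cons,
      scaleP_mul c (hs a (Multiset.mem_cons_self a s)).1.ne_zero
        (Multiset.prod_ne_zero fun h => (hs' 0 h).1.ne_zero rfl), ih hs']

variable [Fintype F]

theorem tupleOf_smul (c : Fˣ) (g : GL (Fin n) F) (j : ℕ) :
    tupleOf (eld (sc n c * g)) j = scaleP c (tupleOf (eld g) j) := by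
  rw [eld_smul, tupleOf, tupleOf, Multiset.filter_map, Multiset.map_map, scaleP_prod]
  · rw [Multiset.map_map]
    rfl
  · intro p hp
    obtain ⟨z, hz, rfl⟩ := Multiset.mem_map.mp hp
    have := eld_props (Multiset.mem_filter.mp hz).1
    exact ⟨this.1, this.2.1⟩

theorem expand_contract_of_fixed (c : Fˣ) {f : F[X]} (hf0 : f.coeff 0 ≠ 0) (h : scaleP c f = f) :
    expand F (orderOf c) (contract (orderOf c) f) = f := by
  have ho : 0 < orderOf c := orderOf_pos c
  have hdeg : orderOf c ∣ f.natDegree := by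
    have h0 := congrArg (fun p => p.coeff 0) h
    simp only [coeff_scaleP, pow_zero, mul_one] at h0
    refine orderOf_dvd_of_pow_eq_one (Units.ext ?_)
    rw [Units.val_pow_eq_pow_val, Units.val_one]
    exact (mul_eq_right₀ hf0).mp h0
  ext i
  rw [coeff_expand ho]
  split_ifs with hi
  · rw [coeff_contract ho.ne', Nat.div_mul_cancel hi]
  · by_contra hne
    refine hi ?_
    have h1 := congrArg (fun p => p.coeff i) h
    simp only [coeff_scaleP] at h1
    have h2 : (c : F) ^ f.natDegree * ((c⁻¹ : Fˣ) : F) ^ i = 1 := (mul_eq_right₀ (Ne.symm hne)).mp h1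
    have h3 : c ^ f.natDegree * c⁻¹ ^ i = 1 := Units.ext (by simpa using h2)
    rw [orderOf_dvd_iff_pow_eq_one.mp hdeg, one_mul, inv_pow, inv_eq_one] at h3
    exact orderOf_dvd_of_pow_eq_one h3

/-- The value attached to a factor. -/
noncomputable def fval (p : F[X]) : F := (-1) ^ p.natDegree * p.coeff 0

theorem fval_one : fval (1 : F[X]) = 1 := by simp [fval]

theorem fval_mul {p r : F[X]} (hp : p ≠ 0) (hr : r ≠ 0) : fval (p * r) = fval p * fval r := by
  simp only [fval, natDegree_mul hp hr, mul_coeff_zero, pow_add]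
  ring

theorem eldDet_tupleOf (s : Multiset (F[X] × ℕ)) (hs : ∀ z ∈ s, z.1 ≠ 0 ∧ 1 ≤ z.2 ∧ z.2 ≤ n) :
    eldDet s = ∏ j : Fin n, fval (tupleOf s ((j : ℕ) + 1)) ^ ((j : ℕ) + 1) := by
  classical
  induction s using Multiset.induction with
  | empty => simp [eldDet, tupleOf, fval_one]
  | cons a s ih =>
    obtain ⟨ha, ha1, han⟩ := hs a (Multiset.mem_cons_self a s)
    have hs' := fun z hz => hs z (Multiset.mem_cons_of_mem hz)
    have e : ∀ j : ℕ, tupleOf (a ::ₘ s) j = (if a.2 = j then a.1 else 1) * tupleOf s j := fun j => by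
      rw [tupleOf, tupleOf, Multiset.filter_cons]
      split_ifs with h <;> simp
    have hne : ∀ j, tupleOf s j ≠ 0 := fun j => by
      rw [tupleOf]
      refine Multiset.prod_ne_zero fun h => ?_
      obtain ⟨z, hz, hz0⟩ := Multiset.mem_map.mp h
      exact (hs' z (Multiset.mem_filter.mp hz).1).1 hz0
    rw [eldDet, Multiset.map_cons, Multiset.prod_cons, ← eldDet, ih hs']
    have hterm : ∀ j : Fin n, fval (tupleOf (a ::ₘ s) ((j : ℕ) + 1)) ^ ((j : ℕ) + 1) =
        (if a.2 = (j : ℕ) + 1 then fval a.1 ^ a.2 else 1) *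
          fval (tupleOf s ((j : ℕ) + 1)) ^ ((j : ℕ) + 1) := fun j => by
      rw [e]
      split_ifs with h
      · rw [fval_mul ha (hne _), mul_pow, h]
      · rw [one_mul, one_mul]
    rw [Finset.prod_congr rfl fun j _ => hterm j, Finset.prod_mul_distrib]
    congr 1
    rw [Finset.prod_eq_single (⟨a.2 - 1, by omega⟩ : Fin n)]
    · rw [if_pos (by simp; omega)]
      rfl
    · intro j _ hj
      exact if_neg fun h => hj (Fin.ext (by simp; omega))
    · simp

theorem natDegree_tupleOf_pos_iff (s : Multiset (F[X] × ℕ)) (hs : ∀ z ∈ s, z.1.Monic ∧ Irreducible z.1) (j : ℕ) :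
    0 < (tupleOf s j).natDegree ↔ j ∈ s.map Prod.snd := by
  rw [tupleOf, natDegree_multiset_prod_of_monic _ fun p hp => by
    obtain ⟨z, hz, rfl⟩ := Multiset.mem_map.mp hp
    exact (hs z (Multiset.mem_filter.mp hz).1).1]
  constructor
  · intro h
    by_contra hj
    have h0 : (s.filter fun z => z.2 = j) = 0 := by
      refine Multiset.filter_eq_nil.mpr fun z hz e => hj ?_
      exact Multiset.mem_map.mpr ⟨z, hz, e⟩
    rw [h0] at h
    simp at h
  · intro h
    obtain ⟨z, hz, rfl⟩ := Multiset.mem_map.mp h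
    refine lt_of_lt_of_le (hs z hz).2.natDegree_pos (Multiset.le_sum_of_mem ?_)
    exact Multiset.mem_map.mpr ⟨z.1, Multiset.mem_map.mpr ⟨z, Multiset.mem_filter.mpr ⟨hz, rfl⟩, rfl⟩, rfl⟩

theorem tuple_sum_eq (g : GL (Fin n) F) :
    ∑ j : Fin n, ((j : ℕ) + 1) * (tupleOf (eld g) ((j : ℕ) + 1)).natDegree = n := by
  classical
  obtain ⟨ι, fι, p, e, hp, hg, heg⟩ := eld_spec g
  have hsum := finrank_decomp (fun j => (hp j).2.1.ne_zero) hg
  have hle : ∀ i, e i ≤ n := fun i => (eld_props (g := g) (z := (p i, e i)) (by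
    rw [heg]; exact Multiset.mem_map.mpr ⟨i, Finset.mem_univ _, rfl⟩)).2.2.2.2
  conv_rhs => rw [← hsum]
  have hprod : ∀ k, tupleOf (eld g) k = ∏ i ∈ Finset.univ.filter (fun i => e i = k), p i := fun k => by
    simp only [tupleOf, heg, dataOf, Multiset.filter_map, Multiset.map_map, Finset.prod, Finset.filter_val]
    congr 2
  have hdeg : ∀ k, (tupleOf (eld g) k).natDegree = ∑ i ∈ Finset.univ.filter (fun i => e i = k), (p i).natDegree :=
    fun k => by rw [hprod]; exact natDegree_prod_of_monic _ _ fun i _ => (hp i).1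
  simp only [hdeg, Finset.sum_filter, Finset.mul_sum]
  rw [Finset.sum_comm]
  refine Finset.sum_congr rfl fun i _ => ?_
  have h1 := (hp i).2.2.2
  have h2 := hle i
  rw [Finset.sum_eq_single ⟨e i - 1, by omega⟩]
  · simp [show e i - 1 + 1 = e i by omega]
  · intro j _ hj
    rw [if_neg, mul_zero]
    intro h
    exact hj (Fin.ext (by simp [h]))
  · simp

/-- Multiplication of classes by a central element. -/
noncomputable def shift {G : Type*} [Group G] (z : Subgroup.center G) : ConjClasses G → ConjClasses G :=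
  Quotient.map' (fun x => (z : G) * x) fun a b h => by
    obtain ⟨c, hc⟩ := isConj_iff.mp h
    refine isConj_iff.mpr ⟨c, ?_⟩
    rw [← hc, ← mul_assoc c, Subgroup.mem_center_iff.mp z.2 c]
    simp only [mul_assoc]

theorem shift_mk {G : Type*} [Group G] (z : Subgroup.center G) (x : G) :
    shift z (ConjClasses.mk x) = ConjClasses.mk ((z : G) * x) := rfl

/-- The scalar of a central element. -/
theorem exists_scalar (z : Subgroup.center (Matrix.SpecialLinearGroup (Fin n) F)) (hn : 0 < n) :
    ∃ c : Fˣ, Matrix.SpecialLinearGroup.toGL (z : Matrix.SpecialLinearGroup (Fin n) F) = sc n c ∧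
      c ^ n = 1 ∧ orderOf c = orderOf z := by
  obtain ⟨r, hr, hz⟩ := Matrix.SpecialLinearGroup.mem_center_iff.mp z.2
  rw [Fintype.card_fin] at hr
  have hr0 : r ≠ 0 := fun h => by rw [h, zero_pow hn.ne'] at hr; exact zero_ne_one hr
  refine ⟨Units.mk0 r hr0, Units.ext ?_, Units.ext (by simpa using hr), ?_⟩
  · show (z : Matrix.SpecialLinearGroup (Fin n) F).1 = _
    rw [← hz]
    rfl
  · have h1 : orderOf (Matrix.SpecialLinearGroup.toGL (z : Matrix.SpecialLinearGroup (Fin n) F)) = orderOf z := by
      rw [orderOf_injective _ Matrix.SpecialLinearGroup.toGL_injective, Subgroup.orderOf_coe]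
    have h2 : Matrix.SpecialLinearGroup.toGL (z : Matrix.SpecialLinearGroup (Fin n) F) = sc n (Units.mk0 r hr0) := by
      refine Units.ext ?_
      show (z : Matrix.SpecialLinearGroup (Fin n) F).1 = _
      rw [← hz]
      rfl
    rw [← h1, h2, orderOf_injective _ (sc_injective hn)]

/-- The number of classes fixed by a central element. -/
theorem card_fixed_le (hn : 0 < n) (z : Subgroup.center (Matrix.SpecialLinearGroup (Fin n) F)) :
    (Fintype.card F - 1) * Nat.card {C : ConjClasses (Matrix.SpecialLinearGroup (Fin n) F) // shift z C = C} ≤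
      bound F n (n / orderOf z) := by
  classical
  obtain ⟨c, hc, hcn, hco⟩ := exists_scalar z hn
  set o := orderOf c with ho
  have ho0 : 0 < o := orderOf_pos c
  have hon : o ∣ n := orderOf_dvd_of_pow_eq_one hcn
  rw [← hco]
  set m := n / o with hm
  have hm0 : 0 < m := Nat.div_pos (Nat.le_of_dvd hn hon) ho0
  haveI := (tuple_card_le (F := F) n m).1
  letI : Fintype (Tuple F n m) := Fintype.ofFinite _
  let σ : ℕ → F := fun k => (-1) ^ (k * o)
  have hex : ∀ C : {C : ConjClasses (Matrix.SpecialLinearGroup (Fin n) F) // shift z C = C},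
      ∃ x, ConjClasses.mk x = C.1 := fun C => ConjClasses.exists_rep C.1
  choose x hx using hex
  let g := fun C => Matrix.SpecialLinearGroup.toGL (x C)
  have hfix : ∀ C j, scaleP c (tupleOf (eld (g C)) j) = tupleOf (eld (g C)) j := fun C j => by
    rw [← tupleOf_smul]
    congr 1
    refine (isConj_iff_eld.mp ?_)
    have h := C.2
    rw [← hx C, shift_mk, ConjClasses.mk_eq_mk_iff_isConj] at h
    have h2 := (Matrix.SpecialLinearGroup.toGL (n := Fin n) (R := F)).map_isConj h
    rwa [map_mul, hc] at h2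
  have hprop : ∀ C j, (tupleOf (eld (g C)) j).Monic ∧ (tupleOf (eld (g C)) j).coeff 0 ≠ 0 := fun C j => by
    rw [tupleOf]
    refine ⟨monic_multiset_prod_of_monic _ _ fun z hz => (eld_props (Multiset.mem_filter.mp hz).1).1, ?_⟩
    rw [coeff_zero_multiset_prod]
    refine Multiset.prod_ne_zero fun h => ?_
    simp only [Multiset.map_map, Multiset.mem_map, Function.comp_apply] at h
    obtain ⟨z, hz, hz0⟩ := h
    exact (eld_props (Multiset.mem_filter.mp hz).1).2.2.1 hz0
  have hexp : ∀ C j, expand F o (contract o (tupleOf (eld (g C)) j)) = tupleOf (eld (g C)) j := fun C j =>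
    expand_contract_of_fixed c (hprop C j).2 (hfix C j)
  have hdeg : ∀ C j, (contract o (tupleOf (eld (g C)) j)).natDegree * o = (tupleOf (eld (g C)) j).natDegree :=
    fun C j => by
    conv_rhs => rw [← hexp C j, natDegree_expand]
  have hc0 : ∀ C j, (contract o (tupleOf (eld (g C)) j)).coeff 0 = (tupleOf (eld (g C)) j).coeff 0 := fun C j => by
    rw [coeff_contract ho0.ne', zero_mul]
  have hmon : ∀ C j, (contract o (tupleOf (eld (g C)) j)).Monic := fun C j => by
    have h1 := (hprop C j).1
    rw [← hexp C j, Monic, leadingCoeff_expand ho0] at h1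
    exact h1
  let Φ : {C : ConjClasses (Matrix.SpecialLinearGroup (Fin n) F) // shift z C = C} → Tuple F n m := fun C =>
    ⟨fun j => contract o (tupleOf (eld (g C)) ((j : ℕ) + 1)), fun j =>
      ⟨hmon C _, by rw [hc0]; exact (hprop C _).2⟩, by
      rw [hm]
      symm
      refine Nat.div_eq_of_eq_mul_left ho0 ?_
      conv_lhs => rw [← tuple_sum_eq (g C)]
      rw [Finset.sum_mul]
      refine Finset.sum_congr rfl fun j _ => ?_
      rw [mul_assoc, hdeg]⟩
  have hinj : ∀ C D, Φ C = Φ D → eld (g C) = eld (g D) := fun C D h => by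
    have hs : ∀ (E : {C : ConjClasses (Matrix.SpecialLinearGroup (Fin n) F) // shift z C = C}),
        ∀ w ∈ eld (g E), w.1.Monic ∧ Irreducible w.1 := fun E w hw => ⟨(eld_props hw).1, (eld_props hw).2.1⟩
    refine Multiset.ext.mpr fun w => ?_
    obtain ⟨p, k⟩ := w
    by_cases hk : 1 ≤ k ∧ k ≤ n
    · rw [count_eq_of_tupleOf (hs C), count_eq_of_tupleOf (hs D)]
      have h1 := congrFun (congrArg Subtype.val h) ⟨k - 1, by omega⟩
      simp only [Φ, show k - 1 + 1 = k by omega] at h1
      rw [← hexp C k, h1, hexp D k]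
    · rw [Multiset.count_eq_zero.mpr fun hw => hk (eld_props hw).2.2.2,
        Multiset.count_eq_zero.mpr fun hw => hk (eld_props hw).2.2.2]
  have hdet : ∀ C, tDet σ (Φ C) = 1 := fun C => by
    have h1 : (g C).val.det = 1 := (x C).2
    rw [det_eq_eldDet, eldDet_tupleOf (n := n) _ fun w hw =>
      ⟨(eld_props hw).1.ne_zero, (eld_props hw).2.2.2⟩] at h1
    rw [tDet, ← h1]
    refine Finset.prod_congr rfl fun j _ => ?_
    simp only [Φ, σ, hdeg, hc0]
    rfl
  have hgcd : ∀ C, tGcd (Φ C) = eldGcd (eld (g C)) := fun C => by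
    rw [tGcd, eldGcd]
    congr 1
    have hs : ∀ w ∈ eld (g C), w.1.Monic ∧ Irreducible w.1 := fun w hw => ⟨(eld_props hw).1, (eld_props hw).2.1⟩
    have hiff : ∀ j : Fin n, (0 < ((Φ C).1 j).natDegree ↔ (j : ℕ) + 1 ∈ (eld (g C)).map Prod.snd) := fun j => by
      rw [← natDegree_tupleOf_pos_iff _ hs, ← hdeg C]
      exact (Nat.mul_pos_iff_of_pos_right ho0).symm
    apply Nat.dvd_antisymm
    · refine Multiset.dvd_gcd.mpr fun k hk => ?_
      obtain ⟨w, hw, rfl⟩ := Multiset.mem_map.mp hk
      obtain ⟨-, -, -, h1, h2⟩ := eld_props hw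
      refine Finset.gcd_dvd (f := id) (Finset.mem_image.mpr ⟨⟨w.2 - 1, by omega⟩, ?_, by simp; omega⟩)
      rw [Finset.mem_filter]
      refine ⟨Finset.mem_univ _, (hiff _).mpr ?_⟩
      rw [show w.2 - 1 + 1 = w.2 by omega]
      exact hk
    · refine Finset.dvd_gcd fun k hk => ?_
      obtain ⟨j, hj, rfl⟩ := Finset.mem_image.mp hk
      exact Multiset.gcd_dvd ((hiff j).mp (Finset.mem_filter.mp hj).2)
  letI : Fintype {C : ConjClasses (Matrix.SpecialLinearGroup (Fin n) F) // shift z C = C} := Fintype.ofFinite _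
  have hfib : ∀ T : Tuple F n m, (Finset.univ.filter fun C => Φ C = T).card ≤
      if tDet σ T = 1 then tGcd T else 0 := fun T => by
    rcases (Finset.univ.filter fun C => Φ C = T).eq_empty_or_nonempty with h | ⟨C₀, hC₀⟩
    · simp [h]
    rw [Finset.mem_filter] at hC₀
    rw [if_pos (by rw [← hC₀.2]; exact hdet C₀), ← hC₀.2, hgcd]
    refine le_trans ?_ (card_fibre_le hn (g C₀))
    rw [← Fintype.card_subtype, ← Nat.card_eq_fintype_card]
    refine Nat.card_le_card_of_injective (fun C => ⟨C.1.1, ?_⟩)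
      (fun a b h => by
        have h' := congrArg Subtype.val h
        exact Subtype.ext (Subtype.ext h'))
    show toGLClass C.1.1 = _
    rw [← hx C.1]
    exact ConjClasses.mk_eq_mk_iff_isConj.mpr (isConj_iff_eld.mpr (hinj _ _ C.2))
  calc (Fintype.card F - 1) * Nat.card {C : ConjClasses (Matrix.SpecialLinearGroup (Fin n) F) // shift z C = C}
      ≤ (Fintype.card F - 1) * ∑ T : Tuple F n m, (if tDet σ T = 1 then tGcd T else 0) := by
        refine Nat.mul_le_mul_left _ ?_
        rw [Nat.card_eq_fintype_card, ← Finset.card_univ,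
          Finset.card_eq_sum_card_fiberwise (f := Φ) (t := Finset.univ) fun _ _ => Finset.mem_univ _]
        exact Finset.sum_le_sum fun T _ => hfib T
    _ ≤ ∑ T : Tuple F n m, tGcd T ^ 2 := by
        rw [← Finset.sum_filter]
        convert weighted_count (L := n) (m := m) σ using 3
    _ ≤ bound F n m := by
        convert sum_sq_le (L := n) hm0 using 1

theorem card_sl_classes_le (hn : 0 < n) :
    (Fintype.card F - 1) * Nat.card (ConjClasses (Matrix.SpecialLinearGroup (Fin n) F)) ≤ bound F n n := by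
  have h := card_fixed_le (F := F) hn 1
  rw [orderOf_one, Nat.div_one] at h
  refine le_trans (le_of_eq ?_) h
  congr 1
  refine (Nat.card_congr (Equiv.subtypeUnivEquiv fun C => ?_)).symm
  obtain ⟨x, rfl⟩ := ConjClasses.exists_rep C
  rw [shift_mk, OneMemClass.coe_one, one_mul]

/-- Burnside for the classes of the central quotient. -/
theorem card_psl_classes [Fintype (Subgroup.center (Matrix.SpecialLinearGroup (Fin n) F))] :
    Nat.card (Subgroup.center (Matrix.SpecialLinearGroup (Fin n) F)) *
      Nat.card (ConjClasses (Matrix.ProjectiveSpecialLinearGroup (Fin n) F)) =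
    ∑ z : Subgroup.center (Matrix.SpecialLinearGroup (Fin n) F),
      Nat.card {C : ConjClasses (Matrix.SpecialLinearGroup (Fin n) F) // shift z C = C} := by
  classical
  let G := Matrix.SpecialLinearGroup (Fin n) F
  letI act : MulAction (Subgroup.center G) (ConjClasses G) :=
    { smul := shift
      one_smul := fun C => by
        obtain ⟨x, rfl⟩ := ConjClasses.exists_rep C
        show ConjClasses.mk (((1 : Subgroup.center G) : G) * x) = _
        rw [OneMemClass.coe_one, one_mul]
      mul_smul := fun a b C => by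
        obtain ⟨x, rfl⟩ := ConjClasses.exists_rep C
        show ConjClasses.mk (((a * b : Subgroup.center G) : G) * x) = ConjClasses.mk ((a : G) * ((b : G) * x))
        rw [Subgroup.coe_mul, mul_assoc] }
  letI : Fintype (ConjClasses G) := Fintype.ofFinite _
  letI : Fintype (Quotient (MulAction.orbitRel (Subgroup.center G) (ConjClasses G))) := Fintype.ofFinite _
  have hB := MulAction.sum_card_fixedBy_eq_card_orbits_mul_card_group (Subgroup.center G) (ConjClasses G)
  let π : G →* Matrix.ProjectiveSpecialLinearGroup (Fin n) F := QuotientGroup.mk' _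
  let ψ : Quotient (MulAction.orbitRel (Subgroup.center G) (ConjClasses G)) →
      ConjClasses (Matrix.ProjectiveSpecialLinearGroup (Fin n) F) :=
    Quotient.lift (ConjClasses.map π) fun a b hab => by
      obtain ⟨w, rfl⟩ := hab
      obtain ⟨x, rfl⟩ := ConjClasses.exists_rep b
      show ConjClasses.mk (π ((w : G) * x)) = ConjClasses.mk (π x)
      rw [map_mul, show π (w : G) = 1 from (QuotientGroup.eq_one_iff _).mpr w.2, one_mul]
  have hψ : Function.Bijective ψ := by
    constructor
    · intro a b hab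
      induction a using Quotient.inductionOn with
      | _ a =>
      induction b using Quotient.inductionOn with
      | _ b =>
      obtain ⟨x, rfl⟩ := ConjClasses.exists_rep a
      obtain ⟨y, rfl⟩ := ConjClasses.exists_rep b
      change ConjClasses.mk (π x) = ConjClasses.mk (π y) at hab
      obtain ⟨c, hc⟩ := isConj_iff.mp (ConjClasses.mk_eq_mk_iff_isConj.mp hab)
      obtain ⟨c, rfl⟩ := QuotientGroup.mk'_surjective _ c
      rw [← map_inv, ← map_mul, ← map_mul] at hc
      have hz : y * (c * x * c⁻¹)⁻¹ ∈ Subgroup.center G := by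
        refine (QuotientGroup.eq_one_iff _).mp ?_
        show π (y * (c * x * c⁻¹)⁻¹) = 1
        rw [map_mul, map_inv, hc, mul_inv_cancel]
      refine (Quotient.sound (s := MulAction.orbitRel (Subgroup.center G) (ConjClasses G)) ?_).symm
      refine ⟨⟨_, hz⟩, ?_⟩
      show ConjClasses.mk (y * (c * x * c⁻¹)⁻¹ * x) = ConjClasses.mk y
      rw [ConjClasses.mk_eq_mk_iff_isConj]
      refine isConj_iff.mpr ⟨c, ?_⟩
      rw [← mul_assoc c (y * (c * x * c⁻¹)⁻¹) x, Subgroup.mem_center_iff.mp hz c]
      group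
    · intro C
      obtain ⟨x, rfl⟩ := ConjClasses.exists_rep C
      obtain ⟨x, rfl⟩ := QuotientGroup.mk'_surjective _ x
      exact ⟨Quotient.mk _ (ConjClasses.mk x), rfl⟩
  rw [← Nat.card_congr (Equiv.ofBijective ψ hψ), Nat.card_eq_fintype_card, Nat.card_eq_fintype_card, mul_comm,
    ← hB]
  refine Finset.sum_congr rfl fun w _ => ?_
  rw [← Nat.card_eq_fintype_card]
  rfl

theorem card_center (hn : 0 < n) :
    Nat.card (Subgroup.center (Matrix.SpecialLinearGroup (Fin n) F)) = Nat.gcd n (Fintype.card F - 1) := by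
  rw [Nat.card_congr (Matrix.SpecialLinearGroup.center_equiv_rootsOfUnity' (⟨0, hn⟩ : Fin n)).toEquiv,
    Fintype.card_fin, show rootsOfUnity n F = (powMonoidHom n : Fˣ →* Fˣ).ker by
      ext u; simp [mem_rootsOfUnity],
    IsCyclic.card_powMonoidHom_ker, Nat.card_units, Nat.card_eq_fintype_card, Nat.gcd_comm]

/-- The lower bound. -/
theorem lt_card_sl_classes (hn : 2 ≤ n) :
    Fintype.card F ^ (n - 1) < Nat.card (ConjClasses (Matrix.SpecialLinearGroup (Fin n) F)) := by
  classical
  obtain ⟨d, rfl⟩ : ∃ d, n = d + 2 := ⟨n - 2, by omega⟩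
  set ε : F := (-1) ^ (d + 2) with hεd
  have hε : ε ≠ 0 := pow_ne_zero _ (neg_ne_zero.mpr one_ne_zero)
  let pol : (Fin (d + 1) → F) → PolyD F (d + 2) := fun c =>
    (polyDEquiv (d + 1)).symm ⟨Fin.cons ε c, by simpa using hε⟩
  have hpol : Function.Injective pol := fun a b h => by
    have := congrArg Subtype.val ((polyDEquiv (d + 1)).symm.injective h)
    exact Fin.cons_right_injective (α := fun _ => F) _ this
  have hpol0 : ∀ c, (pol c).1.coeff 0 = ε := fun c => by
    have h := (polyDEquiv (d + 1)).apply_symm_apply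
      (⟨Fin.cons ε c, by simpa using hε⟩ : {f : Fin (d + 1 + 1) → F // f 0 ≠ 0})
    have h2 := congrFun (congrArg Subtype.val h) 0
    simp only [Fin.cons_zero] at h2
    rw [← h2]
    show _ = ((monicEquivDegreeLT (R := F) (d + 1 + 1)).trans (degreeLTEquiv F (d + 1 + 1)).toEquiv)
      ⟨(pol c).1, (pol c).2.1, (pol c).2.2.1⟩ 0
    simp [monicEquivDegreeLT, degreeLTEquiv, Polynomial.eraseLead_coeff_of_ne, (pol c).2.2.1]
  have hex : ∀ f : PolyD F (d + 2), ∃ g : GL (Fin (d + 2)) F,
      Nonempty (Gmod g ≃ₗ[F[X]] Qmod f.1) := fun f => by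
    have := finite_qmod f.2.1.ne_zero
    refine exists_gl_of_module (by rw [finrank_qmod, f.2.2.1]) fun m hm => ?_
    obtain ⟨m, rfl⟩ := Ideal.Quotient.mk_surjective m
    change Ideal.Quotient.mk _ (X * m) = 0 at hm
    rw [Ideal.Quotient.eq_zero_iff_mem, Ideal.mem_span_singleton] at hm ⊢
    refine IsCoprime.dvd_of_dvd_mul_left ?_ hm
    refine ((irreducible_X (R := F)).coprime_iff_not_dvd.mpr ?_).symm
    rw [X_dvd_iff]
    exact f.2.2.2
  choose g hg using hex
  have hdet : ∀ c, (g (pol c)).val.det = 1 := fun c => by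
    obtain ⟨E⟩ := hg (pol c)
    haveI := finite_qmod (pol c).2.1.ne_zero
    let T : (Fin (d + 2) → F) ≃ₗ[F] Qmod (pol c).1 :=
      (Module.AEval'.of (toEnd (g (pol c)))).trans (E.restrictScalars F)
    have hconj : (T.toLinearMap ∘ₗ toEnd (g (pol c))) ∘ₗ T.symm.toLinearMap =
        Algebra.lmul F _ (Ideal.Quotient.mk _ X) := by
      refine LinearMap.ext fun w => ?_
      obtain ⟨v, rfl⟩ := T.surjective w
      simp only [LinearMap.comp_apply, LinearEquiv.coe_coe, LinearEquiv.symm_apply_apply]
      show E (Module.AEval'.of (toEnd (g (pol c))) (toEnd (g (pol c)) v)) = _ * E _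
      rw [← Module.AEval'.X_smul_of, map_smul]
      show (X : F[X]) • E (Module.AEval'.of (toEnd (g (pol c))) v) =
        Ideal.Quotient.mk _ X * E (Module.AEval'.of (toEnd (g (pol c))) v)
      generalize E (Module.AEval'.of (toEnd (g (pol c))) v) = w
      obtain ⟨r, rfl⟩ := Ideal.Quotient.mk_surjective w
      rfl
    rw [← LinearMap.det_toLin', ← toEnd, ← LinearMap.det_conj (toEnd (g (pol c))) T, ← LinearMap.comp_assoc,
      hconj, ← Algebra.norm_apply, norm_root (pol c).2.1, (pol c).2.2.1, hpol0, hεd, ← mul_pow,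
      neg_one_mul, neg_neg, one_pow]
  let Φ : Option (Fin (d + 1) → F) → ConjClasses (Matrix.SpecialLinearGroup (Fin (d + 2)) F) := fun o =>
    match o with
    | none => ConjClasses.mk 1
    | some c => ConjClasses.mk ⟨(g (pol c)).val, hdet c⟩
  have hgl : ∀ c, Matrix.SpecialLinearGroup.toGL
      (⟨(g (pol c)).val, hdet c⟩ : Matrix.SpecialLinearGroup (Fin (d + 2)) F) = g (pol c) := fun c => Units.ext rfl
  have hne : ∀ c, g (pol c) ≠ 1 := fun c h => by
    obtain ⟨E⟩ := hg (pol c)
    have hkill : ∀ v : Gmod (g (pol c)), (X - C 1 : F[X]) • v = 0 := by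
      rw [gmod_smul_eq_zero_iff, map_sub, aeval_X, aeval_C, h, toEnd, Units.val_one, Matrix.toLin'_one,
        map_one]
      exact sub_self _
    have h1 := hkill (E.symm (Ideal.Quotient.mk _ 1))
    rw [← map_smul, map_eq_zero_iff _ E.symm.injective] at h1
    change Ideal.Quotient.mk _ ((X - C 1) * 1) = 0 at h1
    rw [Ideal.Quotient.eq_zero_iff_mem, Ideal.mem_span_singleton, mul_one] at h1
    have := natDegree_le_of_dvd h1 (X_sub_C_ne_zero 1)
    rw [(pol c).2.2.1, natDegree_X_sub_C] at this
    omega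
  have hinj : Function.Injective Φ := by
    rintro (_ | a) (_ | b) h
    · rfl
    · exfalso
      have := (Matrix.SpecialLinearGroup.toGL (n := Fin (d + 2)) (R := F)).map_isConj
        (ConjClasses.mk_eq_mk_iff_isConj.mp h)
      rw [map_one, hgl, isConj_one_right] at this
      exact hne b this
    · exfalso
      have := (Matrix.SpecialLinearGroup.toGL (n := Fin (d + 2)) (R := F)).map_isConj
        (ConjClasses.mk_eq_mk_iff_isConj.mp h)
      rw [map_one, hgl, isConj_one_left] at this
      exact hne a this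
    · have := (Matrix.SpecialLinearGroup.toGL (n := Fin (d + 2)) (R := F)).map_isConj
        (ConjClasses.mk_eq_mk_iff_isConj.mp h)
      rw [hgl, hgl] at this
      obtain ⟨E⟩ := equiv_of_isConj this
      obtain ⟨E1⟩ := hg (pol a)
      obtain ⟨E2⟩ := hg (pol b)
      have h1 := (E1.symm.trans (E.trans E2)).annihilator_eq
      rw [Ideal.annihilator_quotient, Ideal.annihilator_quotient] at h1
      exact congrArg some (hpol (Subtype.ext (eq_of_monic_of_associated (pol a).2.1 (pol b).2.1
        (Ideal.span_singleton_eq_span_singleton.mp h1))))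
  have h := Nat.card_le_card_of_injective Φ hinj
  rw [Nat.card_eq_fintype_card, Fintype.card_option, Fintype.card_fun, Fintype.card_fin] at h
  simpa using h

end CfsgLib.SLClassNumber
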