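import Cfsg.Agent.Lib.GLClassNumber.Unipotent
import Cfsg.Agent.Lib.GLClassNumber.Count
import Cfsg.Agent.Lib.GLClassNumber.PGLInvolution
import Cfsg.Agent.Lib.GLClassNumber.OrderR

/-!
Elementary divisors as a complete invariant of a class of `GL_n`, and their behaviour under scalars.
-/

set_option autoImplicit false

namespace CfsgLib.SLClassNumber

open Polynomial CfsgLib.GLClassNumber

universe u

variable {F : Type u} [Field F] [Fintype F] {n : ℕ}

theorem card_qmod_pow {f : F[X]} (hf : f.Monic) :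
    Nat.card (Qmod f) = Fintype.card F ^ f.natDegree := by
  have := finite_qmod (F := F) hf.ne_zero
  rw [Module.natCard_eq_pow_finrank (K := F), finrank_qmod, Nat.card_eq_fintype_card]

open Classical in
/-- Size of the kernel of a prime power on a cyclic module. -/
theorem card_qmod_pow_ker {P p : F[X]} (hP : P.Monic ∧ Irreducible P) (hp : p.Monic ∧ Irreducible p)
    (e k : ℕ) :
    Nat.card {x : Qmod (p ^ e) // P ^ k • x = 0} =
      Fintype.card F ^ (if p = P then P.natDegree * min k e else 0) := by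
  split_ifs with hpP
  · subst hpP
    rcases le_or_gt e k with h | h
    · rw [min_eq_right h, mul_comm, ← natDegree_pow, ← card_qmod_pow (hp.1.pow e)]
      refine Nat.card_congr (Equiv.subtypeUnivEquiv fun x => ?_)
      obtain ⟨r, rfl⟩ := Ideal.Quotient.mk_surjective x
      show Ideal.Quotient.mk _ (p ^ k * r) = 0
      rw [Ideal.Quotient.eq_zero_iff_mem, Ideal.mem_span_singleton]
      exact (pow_dvd_pow _ h).mul_right r
    · rw [min_eq_left h.le, mul_comm, ← natDegree_pow, ← card_qmod_pow (hp.1.pow k)]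
      let T : F[X] →ₗ[F[X]] Qmod (p ^ e) :=
        LinearMap.toSpanSingleton F[X] _ (Ideal.Quotient.mk _ (p ^ (e - k)))
      have hT : ∀ r, T r = Ideal.Quotient.mk _ (r * p ^ (e - k)) := fun r => rfl
      have hsplit : p ^ e = p ^ k * p ^ (e - k) := by rw [← pow_add]; congr 1; omega
      have hne : ∀ j, p ^ j ≠ 0 := fun j => pow_ne_zero _ hp.1.ne_zero
      have hker : LinearMap.ker T = Ideal.span {p ^ k} := by
        ext r
        rw [LinearMap.mem_ker, hT, Ideal.Quotient.eq_zero_iff_mem, Ideal.mem_span_singleton,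
          Ideal.mem_span_singleton, hsplit]
        exact mul_dvd_mul_iff_right (hne _)
      have hrange : ∀ x, x ∈ LinearMap.range T ↔ p ^ k • x = 0 := fun x => by
        constructor
        · rintro ⟨r, rfl⟩
          rw [hT]
          show Ideal.Quotient.mk _ (p ^ k * (r * p ^ (e - k))) = 0
          rw [Ideal.Quotient.eq_zero_iff_mem, Ideal.mem_span_singleton, hsplit]
          exact mul_dvd_mul_left _ (dvd_mul_left _ _)
        · intro hx
          obtain ⟨r, rfl⟩ := Ideal.Quotient.mk_surjective x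
          change Ideal.Quotient.mk _ (p ^ k * r) = 0 at hx
          rw [Ideal.Quotient.eq_zero_iff_mem, Ideal.mem_span_singleton, hsplit] at hx
          obtain ⟨r', rfl⟩ := (mul_dvd_mul_iff_left (hne _)).mp hx
          exact ⟨r', by rw [hT, mul_comm]⟩
      rw [Nat.card_congr (Equiv.subtypeEquivRight fun x => (hrange x).symm)]
      exact Nat.card_congr
        (((Submodule.quotEquivOfEq _ _ hker.symm).trans T.quotKerEquivRange).toEquiv.symm)
  · rw [pow_zero]
    refine Nat.card_eq_one_iff_unique.mpr ⟨⟨fun x y => ?_⟩, ⟨⟨0, smul_zero _⟩⟩⟩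
    have hco : IsCoprime (p ^ e) (P ^ k) := by
      refine IsCoprime.pow ((hp.2.coprime_iff_not_dvd).mpr fun hd => hpP ?_)
      exact eq_of_monic_of_associated hp.1 hP.1 (hp.2.associated_of_dvd hP.2 hd)
    have hz : ∀ x : {x : Qmod (p ^ e) // P ^ k • x = 0}, x.1 = 0 := fun x => by
      obtain ⟨s, hs⟩ := Ideal.Quotient.mk_surjective x.1
      have hx := x.2
      rw [← hs] at hx
      change Ideal.Quotient.mk _ (P ^ k * s) = 0 at hx
      rw [Ideal.Quotient.eq_zero_iff_mem, Ideal.mem_span_singleton] at hx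
      rw [← hs, Ideal.Quotient.eq_zero_iff_mem, Ideal.mem_span_singleton]
      exact hco.dvd_of_dvd_mul_left hx
    exact Subtype.ext ((hz x).trans (hz y).symm)

/-- The data of a decomposition. -/
def dataOf {ι : Type u} [Fintype ι] (p : ι → F[X]) (e : ι → ℕ) : Multiset (F[X] × ℕ) :=
  Finset.univ.val.map fun i => (p i, e i)

theorem eld_unique {ι κ : Type u} [Fintype ι] [Fintype κ] {g : GL (Fin n) F} {p : ι → F[X]} {e : ι → ℕ}
    {p' : κ → F[X]} {e' : κ → ℕ}
    (hp : ∀ i, (p i).Monic ∧ Irreducible (p i) ∧ 1 ≤ e i)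
    (hp' : ∀ i, (p' i).Monic ∧ Irreducible (p' i) ∧ 1 ≤ e' i)
    (h : HasDecomp g p e) (h' : HasDecomp g p' e') : dataOf p e = dataOf p' e' := by
  classical
  have key : ∀ {ι : Type u} [Fintype ι] (p : ι → F[X]) (e : ι → ℕ)
      (hp : ∀ i, (p i).Monic ∧ Irreducible (p i) ∧ 1 ≤ e i) (h : HasDecomp g p e) (P : F[X])
      (hP : P.Monic ∧ Irreducible P) (k : ℕ),
      kerCard g (P ^ k) = Fintype.card F ^
        (P.natDegree * ((((dataOf p e).filter fun z => z.1 = P).map Prod.snd).map (min k)).sum) := by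
    intro ι _ p e hp h P hP k
    obtain ⟨E⟩ := h
    rw [kerCard, Nat.card_congr (E.toEquiv.subtypeEquiv (q := fun x => P ^ k • x = 0) fun v => by
      constructor
      · intro hv
        show P ^ k • E v = 0
        rw [← map_smul, hv, map_zero]
      · intro hv
        change P ^ k • E v = 0 at hv
        rwa [← map_smul, map_eq_zero_iff _ E.injective] at hv)]
    let Ψ : {b : (i : ι) → Qmod (p i ^ e i) // P ^ k • b = 0} ≃
        ((i : ι) → {x : Qmod (p i ^ e i) // P ^ k • x = 0}) :=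
      { toFun := fun b i => ⟨b.1 i, congrFun b.2 i⟩
        invFun := fun w => ⟨fun i => (w i).1, funext fun i => (w i).2⟩
        left_inv := fun _ => rfl
        right_inv := fun _ => rfl }
    rw [Nat.card_congr Ψ, Nat.card_pi,
      Finset.prod_congr rfl fun i _ => card_qmod_pow_ker hP ⟨(hp i).1, (hp i).2.1⟩ (e i) k,
      Finset.prod_pow_eq_pow_sum]
    congr 1
    simp only [dataOf, Multiset.filter_map, Multiset.map_map]
    rw [← Finset.sum_filter]
    show ∑ i ∈ Finset.univ.filter (fun i => p i = P), P.natDegree * min k (e i) =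
      P.natDegree * ∑ i ∈ Finset.univ.filter (fun i => p i = P), min k (e i)
    rw [Finset.mul_sum]
  refine Multiset.ext.mpr fun z => ?_
  obtain ⟨P, j⟩ := z
  by_cases hP : P.Monic ∧ Irreducible P
  · have hfil : ((dataOf p e).filter fun z => z.1 = P).map Prod.snd =
        ((dataOf p' e').filter fun z => z.1 = P).map Prod.snd := by
      refine multiset_eq_of_min_sums ?_ ?_ fun k => ?_
      · intro a ha
        simp only [dataOf, Multiset.mem_map, Multiset.mem_filter] at ha
        obtain ⟨z, ⟨⟨i, -, rfl⟩, -⟩, rfl⟩ := ha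
        exact (hp i).2.2
      · intro a ha
        simp only [dataOf, Multiset.mem_map, Multiset.mem_filter] at ha
        obtain ⟨z, ⟨⟨i, -, rfl⟩, -⟩, rfl⟩ := ha
        exact (hp' i).2.2
      · have h1 := (key p e hp h P hP k).symm.trans (key p' e' hp' h' P hP k)
        exact Nat.eq_of_mul_eq_mul_left hP.2.natDegree_pos
          (Nat.pow_right_injective Fintype.one_lt_card h1)
    have hc : ∀ s : Multiset (F[X] × ℕ), s.count (P, j) =
        ((s.filter fun z => z.1 = P).map Prod.snd).count j := fun s => by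
      rw [Multiset.count_map, Multiset.filter_filter, ← Multiset.countP_eq_card_filter, Multiset.count]
      refine Multiset.countP_congr rfl fun z _ => ?_
      simp [Prod.ext_iff, eq_comm, and_comm]
    rw [hc, hc, hfil]
  · rw [Multiset.count_eq_zero.mpr, Multiset.count_eq_zero.mpr]
    · intro hz
      obtain ⟨i, -, hi⟩ := Multiset.mem_map.mp hz
      obtain ⟨rfl, -⟩ := Prod.ext_iff.mp hi
      exact hP ⟨(hp' i).1, (hp' i).2.1⟩
    · intro hz
      obtain ⟨i, -, hi⟩ := Multiset.mem_map.mp hz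
      obtain ⟨rfl, -⟩ := Prod.ext_iff.mp hi
      exact hP ⟨(hp i).1, (hp i).2.1⟩

/-- The multiset of elementary divisors. -/
noncomputable def eld (g : GL (Fin n) F) : Multiset (F[X] × ℕ) :=
  @dataOf F _ (exists_decomp g).choose (exists_decomp g).choose_spec.choose
    (exists_decomp g).choose_spec.choose_spec.choose
    (exists_decomp g).choose_spec.choose_spec.choose_spec.choose

theorem eld_spec (g : GL (Fin n) F) :
    ∃ (ι : Type u) (_ : Fintype ι) (p : ι → F[X]) (e : ι → ℕ),
      (∀ i, (p i).Monic ∧ Irreducible (p i) ∧ p i ≠ X ∧ 1 ≤ e i) ∧ HasDecomp g p e ∧ eld g = dataOf p e := by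
  have h := (exists_decomp g).choose_spec.choose_spec.choose_spec.choose_spec
  exact ⟨_, (exists_decomp g).choose_spec.choose, _, _, h.1, h.2, rfl⟩

theorem eld_eq {ι : Type u} [Fintype ι] {g : GL (Fin n) F} {p : ι → F[X]} {e : ι → ℕ}
    (hp : ∀ i, (p i).Monic ∧ Irreducible (p i) ∧ 1 ≤ e i) (h : HasDecomp g p e) : eld g = dataOf p e := by
  obtain ⟨κ, fκ, p', e', hp', h', he⟩ := eld_spec g
  rw [he]
  exact eld_unique (fun i => ⟨(hp' i).1, (hp' i).2.1, (hp' i).2.2.2⟩) hp h' h

theorem isConj_iff_eld {g h : GL (Fin n) F} : IsConj g h ↔ eld g = eld h := by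
  obtain ⟨ι, fι, p, e, hp, hg, heg⟩ := eld_spec g
  obtain ⟨κ, fκ, p', e', hp', hh, heh⟩ := eld_spec h
  constructor
  · intro hc
    obtain ⟨E⟩ := equiv_of_isConj hc
    obtain ⟨E'⟩ := hh
    rw [heh]
    exact eld_eq (fun i => ⟨(hp' i).1, (hp' i).2.1, (hp' i).2.2.2⟩) ⟨E.trans E'⟩
  · intro he
    rw [heg, heh] at he
    exact isConj_of_decomp hg hh he

theorem eld_props {g : GL (Fin n) F} {z : F[X] × ℕ} (hz : z ∈ eld g) :
    z.1.Monic ∧ Irreducible z.1 ∧ z.1.coeff 0 ≠ 0 ∧ 1 ≤ z.2 ∧ z.2 ≤ n := by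
  obtain ⟨ι, fι, p, e, hp, hg, heg⟩ := eld_spec g
  rw [heg] at hz
  obtain ⟨i, -, rfl⟩ := Multiset.mem_map.mp hz
  obtain ⟨hm, hirr, hX, he⟩ := hp i
  refine ⟨hm, hirr, fun h0 => hX ?_, he, ?_⟩
  · refine (eq_of_monic_of_associated monic_X hm ?_).symm
    exact irreducible_X.associated_of_dvd hirr (X_dvd_iff.mpr h0)
  · have hsum := finrank_decomp (fun j => (hp j).2.1.ne_zero) hg
    calc e i ≤ e i * (p i).natDegree := Nat.le_mul_of_pos_right _ hirr.natDegree_pos
      _ ≤ n := hsum ▸ Finset.single_le_sum (f := fun j => e j * (p j).natDegree)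
          (fun j _ => Nat.zero_le _) (Finset.mem_univ i)

theorem sum_eld (g : GL (Fin n) F) : ((eld g).map fun z => z.2 * z.1.natDegree).sum = n := by
  obtain ⟨ι, fι, p, e, hp, hg, heg⟩ := eld_spec g
  rw [heg, dataOf, Multiset.map_map]
  exact finrank_decomp (fun j => (hp j).2.1.ne_zero) hg

/-- The substitution making a polynomial monic again after rescaling the variable. -/
noncomputable def scaleP (c : Fˣ) (p : F[X]) : F[X] :=
  C ((c : F) ^ p.natDegree) * p.comp (C ((c⁻¹ : Fˣ) : F) * X)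

/-- Rescaling the variable. -/
noncomputable def scaleX (c : Fˣ) : F[X] ≃ₐ[F] F[X] :=
  AlgEquiv.ofAlgHom (aeval (C ((c⁻¹ : Fˣ) : F) * X)) (aeval (C (c : F) * X))
    (by
      refine Polynomial.algHom_ext ?_
      simp [← mul_assoc, ← C_mul])
    (by
      refine Polynomial.algHom_ext ?_
      simp [← mul_assoc, ← C_mul])

theorem scaleX_apply (c : Fˣ) (p : F[X]) : scaleX c p = p.comp (C ((c⁻¹ : Fˣ) : F) * X) :=
  rfl

theorem natDegree_scaleP (c : Fˣ) (p : F[X]) : (scaleP c p).natDegree = p.natDegree := by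
  rw [scaleP, natDegree_C_mul (pow_ne_zero _ c.ne_zero), natDegree_comp, natDegree_C_mul (Units.ne_zero _),
    natDegree_X, mul_one]

theorem coeff_scaleP (c : Fˣ) (p : F[X]) (i : ℕ) :
    (scaleP c p).coeff i = (c : F) ^ p.natDegree * ((c⁻¹ : Fˣ) : F) ^ i * p.coeff i := by
  rw [scaleP, coeff_C_mul, comp_C_mul_X_coeff]
  ring

theorem scaleP_props {c : Fˣ} {p : F[X]} (hp : p.Monic ∧ Irreducible p) :
    (scaleP c p).Monic ∧ Irreducible (scaleP c p) ∧ Associated (scaleX c p) (scaleP c p) := by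
  have ha : Associated (scaleX c p) (scaleP c p) := by
    rw [scaleP, ← scaleX_apply]
    exact (associated_unit_mul_left _ _
      ((isUnit_iff_ne_zero.mpr (pow_ne_zero p.natDegree c.ne_zero)).map C)).symm
  refine ⟨?_, ha.irreducible ((MulEquiv.irreducible_iff (scaleX c).toRingEquiv.toMulEquiv).mpr hp.2), ha⟩
  rw [Monic, leadingCoeff, natDegree_scaleP, coeff_scaleP, ← mul_pow, Units.mul_inv, one_pow, one_mul]
  exact hp.1

/-- Multiplying by a scalar rescales the elementary divisors. -/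
theorem eld_smul (c : Fˣ) (g : GL (Fin n) F) :
    eld (sc n c * g) = (eld g).map fun z => (scaleP c z.1, z.2) := by
  classical
  obtain ⟨ι, fι, p, e, hp, ⟨E⟩, heg⟩ := eld_spec g
  have hp2 : ∀ i, (p i).Monic ∧ Irreducible (p i) := fun i => ⟨(hp i).1, (hp i).2.1⟩
  have hI : ∀ i, Ideal.span {scaleP c (p i) ^ e i} =
      (Ideal.span {p i ^ e i}).map (scaleX c : F[X] →+* F[X]) := fun i => by
    rw [Ideal.map_span, Set.image_singleton]
    show _ = Ideal.span {scaleX c (p i ^ e i)}
    rw [map_pow]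
    exact Ideal.span_singleton_eq_span_singleton.mpr ((scaleP_props (hp2 i)).2.2.symm.pow_pow)
  let σ : ∀ i, Qmod (p i ^ e i) ≃ₐ[F] Qmod (scaleP c (p i) ^ e i) := fun i =>
    Ideal.quotientEquivAlg _ _ (scaleX c) (hI i)
  let T : (Fin n → F) ≃ₗ[F] ((i : ι) → Qmod (scaleP c (p i) ^ e i)) :=
    ((Module.AEval'.of (toEnd g)).trans (E.restrictScalars F)).trans
      (LinearEquiv.piCongrRight fun i => (σ i).toLinearEquiv)
  have hT : ∀ v, T (toEnd (sc n c * g) v) = (X : F[X]) • T v := fun v => by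
    funext i
    rw [toEnd_mul, toEnd_sc]
    show (T ((c : F) • toEnd g v)) i = _
    rw [map_smul]
    show (c : F) • σ i (E (Module.AEval'.of (toEnd g) (toEnd g v)) i) =
      (X : F[X]) • σ i (E (Module.AEval'.of (toEnd g) v) i)
    rw [← Module.AEval'.X_smul_of, map_smul, Pi.smul_apply]
    obtain ⟨r, hr⟩ := Ideal.Quotient.mk_surjective (E (Module.AEval'.of (toEnd g) v) i)
    rw [← hr]
    show (c : F) • (Ideal.Quotient.mk _ (scaleX c (X * r))) = Ideal.Quotient.mk _ (X * scaleX c r)
    have : (c : F) • Ideal.Quotient.mk (Ideal.span {scaleP c (p i) ^ e i}) (scaleX c (X * r)) =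
        Ideal.Quotient.mk _ (C (c : F) * scaleX c (X * r)) := by
      show Ideal.Quotient.mk (Ideal.span {scaleP c (p i) ^ e i}) ((c : F) • scaleX c (X * r)) = _
      rw [Polynomial.smul_eq_C_mul]
    rw [this, map_mul (scaleX c), show scaleX c X = C ((c⁻¹ : Fˣ) : F) * X by rw [scaleX_apply, X_comp]]
    rw [← mul_assoc, ← mul_assoc, ← C_mul, Units.mul_inv, C_1, one_mul]
  have h2 : HasDecomp (sc n c * g) (fun i => scaleP c (p i)) e := ⟨LinearEquiv.ofAEval _ T hT⟩
  rw [eld_eq (fun i => ⟨(scaleP_props (hp2 i)).1, (scaleP_props (hp2 i)).2.1, (hp i).2.2.2⟩) h2, heg,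
    dataOf, dataOf, Multiset.map_map]
  rfl

end CfsgLib.SLClassNumber
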