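import Cfsg.Agent.Lib.SLClassNumber.Invariant

/-!
Determinants through elementary divisors, and the splitting of classes in the special linear group.
-/

set_option autoImplicit false

namespace CfsgLib.SLClassNumber

open Polynomial CfsgLib.GLClassNumber

universe u

variable {F : Type u} [Field F] {n : ℕ}

theorem norm_pi {ι : Type*} [Fintype ι] {A : ι → Type*} [∀ i, CommRing (A i)] [∀ i, Algebra F (A i)]
    [∀ i, Module.Finite F (A i)] (x : (i : ι) → A i) :
    Algebra.norm F x = ∏ i, Algebra.norm F (x i) := by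
  letI : LinearOrder ι := LinearOrder.lift' (Fintype.equivFin ι) (Equiv.injective _)
  let b : ∀ i, Module.Basis _ F (A i) := fun i => Module.finBasis F (A i)
  let B := Pi.basis b
  rw [Algebra.norm_eq_matrix_det B,
    Finset.prod_congr rfl fun i _ => Algebra.norm_eq_matrix_det (b i) (x i)]
  have : Algebra.leftMulMatrix B x = Matrix.blockDiagonal' fun i => Algebra.leftMulMatrix (b i) (x i) := by
    ext ⟨i, a⟩ ⟨j, c⟩
    rw [Algebra.leftMulMatrix_eq_repr_mul, Matrix.blockDiagonal'_apply]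
    simp only [B, Pi.basis_apply, Pi.basis_repr, Pi.mul_apply]
    by_cases hij : i = j
    · subst hij
      rw [dif_pos rfl, Algebra.leftMulMatrix_eq_repr_mul, Pi.single_eq_same]
      rfl
    · rw [dif_neg hij, Pi.single_eq_of_ne hij, mul_zero, map_zero]
      rfl
  rw [this]
  rw [(Matrix.blockTriangular_blockDiagonal' _).det_fintype]
  refine Finset.prod_congr rfl fun k _ => ?_
  let ek : Fin (Module.finrank F (A k)) ≃ {z : (i : ι) × Fin (Module.finrank F (A i)) // z.1 = k} :=
    { toFun := fun a => ⟨⟨k, a⟩, rfl⟩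
      invFun := fun z => z.2 ▸ z.1.2
      left_inv := fun a => rfl
      right_inv := by rintro ⟨⟨i, a⟩, rfl⟩; rfl }
  rw [← Matrix.det_submatrix_equiv_self ek]
  congr 1
  ext a c
  simp [Matrix.toSquareBlock_def, ek]

theorem norm_root {f : F[X]} (hf : f.Monic) :
    Algebra.norm F (Ideal.Quotient.mk (Ideal.span {f}) X) = (-1) ^ f.natDegree * f.coeff 0 := by
  show Algebra.norm F (AdjoinRoot.root f) = _
  have h := Algebra.PowerBasis.norm_gen_eq_coeff_zero_minpoly (AdjoinRoot.powerBasis hf.ne_zero)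
  rw [AdjoinRoot.powerBasis_gen, AdjoinRoot.powerBasis_dim] at h
  rw [h, AdjoinRoot.minpoly_root hf.ne_zero, hf.leadingCoeff, inv_one, map_one, mul_one]

variable [Fintype F]

/-- Every `e`-th power is the norm of a unit of `F[X] / (p ^ e)`. -/
theorem exists_norm_pow {p : F[X]} (hp : p.Monic ∧ Irreducible p) {e : ℕ} (he : 1 ≤ e) (c : Fˣ) :
    ∃ u : Qmod (p ^ e), IsUnit u ∧ Algebra.norm F u = (c : F) ^ e := by
  classical
  haveI := Fact.mk hp.2
  let K := AdjoinRoot p
  let R := Qmod (p ^ e)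
  haveI : Module.Finite F R := finite_qmod (pow_ne_zero _ hp.1.ne_zero)
  haveI : Module.Finite F K := Module.Finite.of_basis (AdjoinRoot.powerBasis hp.1.ne_zero).basis
  haveI : Finite K := Module.finite_of_finite F
  obtain ⟨p₀, a, hp₀, ha⟩ : ∃ p₀ : ℕ, ∃ a : ℕ+, Nat.Prime p₀ ∧ Fintype.card F = p₀ ^ (a : ℕ) := by
    obtain ⟨p₀, hp₀⟩ := CharP.exists F
    obtain ⟨a, h1, h2⟩ := FiniteField.card F p₀
    exact ⟨p₀, a, h1, h2⟩
  let N := Fintype.card F ^ e
  have hN : e ≤ N := (Nat.lt_pow_self Fintype.one_lt_card).le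
  have hexp : ∀ k : ℕ, p.comp (X ^ Fintype.card F ^ k) = p ^ Fintype.card F ^ k := fun k => by
    induction k with
    | zero => simp
    | succ k ih =>
      rw [pow_succ, pow_mul X, pow_mul p, ← ih, ← pow_comp, ← FiniteField.expand_card p,
        expand_eq_comp_X_pow, comp_assoc, X_pow_comp]
  let ξ : R := Ideal.Quotient.mk _ (X ^ Fintype.card F ^ e)
  have hξ : Polynomial.eval₂ (algebraMap F R) ξ p = 0 := by
    show aeval ξ p = 0
    rw [show ξ = aeval (Ideal.Quotient.mk (Ideal.span {p ^ e}) X) (X ^ Fintype.card F ^ e : F[X]) by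
      simp [ξ], ← aeval_comp, hexp]
    rw [show aeval (Ideal.Quotient.mk (Ideal.span {p ^ e}) X) (p ^ Fintype.card F ^ e : F[X]) =
      Ideal.Quotient.mk _ (p ^ Fintype.card F ^ e) from by
        have : (aeval (Ideal.Quotient.mk (Ideal.span {p ^ e}) X) : F[X] →ₐ[F] R) =
            Ideal.Quotient.mkₐ F _ := Polynomial.algHom_ext (by rw [aeval_X]; rfl)
        rw [this]; rfl]
    rw [Ideal.Quotient.eq_zero_iff_mem, Ideal.mem_span_singleton]
    exact pow_dvd_pow _ hN
  let φ : K →ₐ[F] R := AdjoinRoot.liftAlgHom p (Algebra.ofId F R) ξ hξ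
  letI : Algebra K R := φ.toRingHom.toAlgebra
  haveI : IsScalarTower F K R := IsScalarTower.of_algebraMap_eq fun x => (φ.commutes x).symm
  haveI : Module.Finite K R := Module.Finite.of_restrictScalars_finite F K R
  have hdim : Module.finrank K R = e := by
    have h := Module.finrank_mul_finrank F K R
    have hK : Module.finrank F K = p.natDegree := finrank_qmod p
    have hR : Module.finrank F R = e * p.natDegree := by rw [finrank_qmod, natDegree_pow]
    rw [hK, hR, mul_comm e] at h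
    exact Nat.eq_of_mul_eq_mul_left hp.2.natDegree_pos h
  obtain ⟨α, hα⟩ := FiniteField.norm_surjective (K := F) (K' := K) (c : F)
  have hα0 : α ≠ 0 := fun h => c.ne_zero (by rw [← hα, h]; simp)
  refine ⟨algebraMap K R α, (isUnit_iff_ne_zero.mpr hα0).map _, ?_⟩
  rw [← Algebra.norm_norm (S := K), Algebra.norm_algebraMap, hdim, map_pow, hα]

/-- The determinant as a product over elementary divisors. -/
noncomputable def eldDet (s : Multiset (F[X] × ℕ)) : F :=
  (s.map fun z => ((-1) ^ z.1.natDegree * z.1.coeff 0) ^ z.2).prod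

theorem det_eq_eldDet (g : GL (Fin n) F) : g.val.det = eldDet (eld g) := by
  classical
  obtain ⟨ι, fι, p, e, hp, ⟨E⟩, heg⟩ := eld_spec g
  haveI : ∀ i, Module.Finite F (Qmod (p i ^ e i)) := fun i =>
    finite_qmod (pow_ne_zero _ (hp i).1.ne_zero)
  let T : (Fin n → F) ≃ₗ[F] ((i : ι) → Qmod (p i ^ e i)) :=
    (Module.AEval'.of (toEnd g)).trans (E.restrictScalars F)
  let x : (i : ι) → Qmod (p i ^ e i) := fun i => Ideal.Quotient.mk _ X
  have hconj : (T.toLinearMap ∘ₗ toEnd g) ∘ₗ T.symm.toLinearMap = Algebra.lmul F _ x := by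
    refine LinearMap.ext fun w => ?_
    obtain ⟨v, rfl⟩ := T.surjective w
    simp only [LinearMap.comp_apply, LinearEquiv.coe_coe, LinearEquiv.symm_apply_apply]
    show E (Module.AEval'.of (toEnd g) (toEnd g v)) = x * E (Module.AEval'.of (toEnd g) v)
    rw [← Module.AEval'.X_smul_of, map_smul]
    funext i
    obtain ⟨r, hr⟩ := Ideal.Quotient.mk_surjective (E (Module.AEval'.of (toEnd g) v) i)
    rw [Pi.smul_apply, Pi.mul_apply, ← hr]
    rfl
  rw [← LinearMap.det_toLin', ← toEnd, ← LinearMap.det_conj (toEnd g) T, ← LinearMap.comp_assoc, hconj,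
    ← Algebra.norm_apply, norm_pi, heg, eldDet, dataOf, Multiset.map_map]
  refine Finset.prod_congr rfl fun i _ => ?_
  show Algebra.norm F (Ideal.Quotient.mk _ X) = ((-1) ^ (p i).natDegree * (p i).coeff 0) ^ e i
  rw [norm_root ((hp i).1.pow _), natDegree_pow, coeff_zero_eq_eval_zero, eval_pow, ← coeff_zero_eq_eval_zero,
    mul_pow, ← pow_mul, mul_comm (e i)]

/-- The gcd of `q - 1` and the exponents. -/
noncomputable def eldGcd (s : Multiset (F[X] × ℕ)) : ℕ :=
  Nat.gcd (Fintype.card F - 1) (s.map Prod.snd).gcd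

/-- Determinants of the centraliser. -/
noncomputable def centDet (g : GL (Fin n) F) : Subgroup Fˣ :=
  (Subgroup.centralizer ({g} : Set (GL (Fin n) F))).map Matrix.GeneralLinearGroup.det

theorem pow_mem_centDet (g : GL (Fin n) F) {z : F[X] × ℕ} (hz : z ∈ eld g) (c : Fˣ) :
    c ^ z.2 ∈ centDet g := by
  classical
  obtain ⟨ι, fι, p, e, hp, ⟨E⟩, heg⟩ := eld_spec g
  rw [heg] at hz
  obtain ⟨i, -, rfl⟩ := Multiset.mem_map.mp hz
  haveI : ∀ i, Module.Finite F (Qmod (p i ^ e i)) := fun i =>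
    finite_qmod (pow_ne_zero _ (hp i).1.ne_zero)
  obtain ⟨u, hu, hun⟩ := exists_norm_pow ⟨(hp i).1, (hp i).2.1⟩ (hp i).2.2.2 c
  let T : (Fin n → F) ≃ₗ[F] ((i : ι) → Qmod (p i ^ e i)) :=
    (Module.AEval'.of (toEnd g)).trans (E.restrictScalars F)
  let y : (j : ι) → Qmod (p j ^ e j) := Function.update 1 i u
  have hy : IsUnit y := Pi.isUnit_iff.mpr fun j => by
    by_cases h : j = i
    · subst h; simp [y, hu]
    · simp [y, h]
  let φ : Module.End F (Fin n → F) := T.symm.toLinearMap ∘ₗ Algebra.lmul F _ y ∘ₗ T.toLinearMap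
  have hcomm : φ ∘ₗ toEnd g = toEnd g ∘ₗ φ := by
    refine LinearMap.ext fun v => T.injective ?_
    have hTg : ∀ w, T (toEnd g w) = (X : F[X]) • T w := fun w => by
      show E (Module.AEval'.of (toEnd g) (toEnd g w)) = _
      rw [← Module.AEval'.X_smul_of, map_smul]
      rfl
    show T (T.symm (y * T (toEnd g v))) = T (toEnd g (T.symm (y * T v)))
    rw [T.apply_symm_apply, hTg, hTg, T.apply_symm_apply, mul_smul_comm]
  have hdet : (LinearMap.toMatrix' φ).det = (c : F) ^ e i := by
    have h0 := LinearMap.det_conj (Algebra.lmul F _ y) T.symm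
    rw [LinearEquiv.symm_symm] at h0
    rw [LinearMap.det_toMatrix', show φ = T.symm.toLinearMap ∘ₗ (Algebra.lmul F _ y) ∘ₗ T.toLinearMap from rfl,
      h0, ← Algebra.norm_apply, norm_pi, Finset.prod_eq_single i]
    · simp [y, hun]
    · intro j _ hj
      simp [y, hj]
    · simp
  let h : GL (Fin n) F := Matrix.GeneralLinearGroup.mkOfDetNeZero (LinearMap.toMatrix' φ)
    (by rw [hdet]; exact pow_ne_zero _ c.ne_zero)
  refine Subgroup.mem_map.mpr ⟨h, ?_, Units.ext ?_⟩
  · rw [Subgroup.mem_centralizer_singleton_iff]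
    refine Units.ext ?_
    show LinearMap.toMatrix' φ * g.val = g.val * LinearMap.toMatrix' φ
    apply Matrix.toLin'.injective
    rw [Matrix.toLin'_mul, Matrix.toLin'_mul, Matrix.toLin'_toMatrix']
    exact hcomm
  · rw [Units.val_pow_eq_pow_val]
    exact hdet

theorem pow_gcd_mem {G : Type*} [CommGroup G] (D : Subgroup G) (s : Multiset ℕ) (c : G)
    (h : ∀ a ∈ s, c ^ a ∈ D) : c ^ s.gcd ∈ D := by
  induction s using Multiset.induction with
  | empty => simpa using D.one_mem
  | cons a s ih =>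
    rw [Multiset.gcd_cons, show gcd a s.gcd = Nat.gcd a s.gcd from rfl, ← zpow_natCast,
      Nat.gcd_eq_gcd_ab, zpow_add, zpow_mul, zpow_mul, zpow_natCast, zpow_natCast]
    exact D.mul_mem (D.zpow_mem (h a (Multiset.mem_cons_self a s)) _)
      (D.zpow_mem (ih fun b hb => h b (Multiset.mem_cons_of_mem hb)) _)

theorem range_pow_le_centDet (g : GL (Fin n) F) :
    (powMonoidHom (eldGcd (eld g)) : Fˣ →* Fˣ).range ≤ centDet g := by
  rintro x ⟨c, rfl⟩
  rw [powMonoidHom_apply, eldGcd, ← zpow_natCast, Nat.gcd_eq_gcd_ab, zpow_add, zpow_mul, zpow_mul,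
    zpow_natCast, zpow_natCast]
  refine Subgroup.mul_mem _ ?_ (Subgroup.zpow_mem _ (pow_gcd_mem _ _ c fun a ha => ?_) _)
  · classical
    rw [← Fintype.card_units, pow_card_eq_one, one_zpow]
    exact Subgroup.one_mem _
  · obtain ⟨z, hz, rfl⟩ := Multiset.mem_map.mp ha
    exact pow_mem_centDet g hz c

/-- The class in `GL` of a class in `SL`. -/
noncomputable def toGLClass :
    ConjClasses (Matrix.SpecialLinearGroup (Fin n) F) → ConjClasses (GL (Fin n) F) :=
  ConjClasses.map Matrix.SpecialLinearGroup.toGL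

/-- A class of `GL` contains at most `gcd (q - 1, exponents)` classes of `SL`. -/
theorem card_fibre_le (hn : 0 < n) (g : GL (Fin n) F) :
    Nat.card {C : ConjClasses (Matrix.SpecialLinearGroup (Fin n) F) // toGLClass C = ConjClasses.mk g} ≤
      eldGcd (eld g) := by
  classical
  rcases isEmpty_or_nonempty
    {C : ConjClasses (Matrix.SpecialLinearGroup (Fin n) F) // toGLClass C = ConjClasses.mk g} with h | ⟨⟨C₀, hC₀⟩⟩
  · simp
  obtain ⟨x₀, rfl⟩ := ConjClasses.exists_rep C₀
  have hx₀ : IsConj (Matrix.SpecialLinearGroup.toGL x₀) g := ConjClasses.mk_eq_mk_iff_isConj.mp hC₀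
  rw [← isConj_iff_eld.mp hx₀]
  set y := Matrix.SpecialLinearGroup.toGL x₀ with hy
  let Rg := (powMonoidHom (eldGcd (eld y)) : Fˣ →* Fˣ).range
  have hsurj : ∀ C : {C : ConjClasses (Matrix.SpecialLinearGroup (Fin n) F) // toGLClass C = ConjClasses.mk g},
      ∃ t : GL (Fin n) F, ∀ x, ConjClasses.mk x = C.1 →
        IsConj (Matrix.SpecialLinearGroup.toGL x) (t * y * t⁻¹) ∧ True := fun C => by
    refine ⟨1, fun x hx => ⟨?_, trivial⟩⟩
    rw [one_mul, inv_one, mul_one]
    refine IsConj.trans ?_ hx₀.symm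
    have := C.2
    rw [← hx] at this
    exact ConjClasses.mk_eq_mk_iff_isConj.mp this
  have hex : ∀ C : {C : ConjClasses (Matrix.SpecialLinearGroup (Fin n) F) // toGLClass C = ConjClasses.mk g},
      ∃ (x : Matrix.SpecialLinearGroup (Fin n) F) (t : GL (Fin n) F),
        ConjClasses.mk x = C.1 ∧ t * y * t⁻¹ = Matrix.SpecialLinearGroup.toGL x := fun C => by
    obtain ⟨x, hx⟩ := ConjClasses.exists_rep C.1
    obtain ⟨t, ht⟩ := hsurj C
    obtain ⟨s, hs⟩ := isConj_iff.mp (ht x hx).1.symm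
    exact ⟨x, s * t, hx, by rw [← hs]; group⟩
  choose x t hx ht using hex
  have hinj : Function.Injective fun C => (QuotientGroup.mk (Matrix.GeneralLinearGroup.det (t C)) : Fˣ ⧸ Rg) := by
    intro C D hCD
    have h1 : (Matrix.GeneralLinearGroup.det (t C))⁻¹ * Matrix.GeneralLinearGroup.det (t D) ∈ centDet y :=
      range_pow_le_centDet y (QuotientGroup.eq.mp hCD)
    obtain ⟨k, hk, hkd⟩ := Subgroup.mem_map.mp h1
    set w := t D * k⁻¹ * (t C)⁻¹ with hw
    have hwd : Matrix.GeneralLinearGroup.det w = 1 := by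
      rw [hw, map_mul, map_mul, map_inv, map_inv, hkd]
      group
    let ws : Matrix.SpecialLinearGroup (Fin n) F := ⟨w.val, by
      have := congrArg Units.val hwd
      simpa using this⟩
    have hws : Matrix.SpecialLinearGroup.toGL ws = w := Units.ext rfl
    have hcomm : k⁻¹ * y * k = y := by
      have h2 := Subgroup.mem_centralizer_singleton_iff.mp hk
      calc k⁻¹ * y * k = k⁻¹ * (y * k) := mul_assoc _ _ _
        _ = k⁻¹ * (k * y) := by rw [h2]
        _ = y := inv_mul_cancel_left k y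
    refine Subtype.ext ?_
    rw [← hx C, ← hx D, ConjClasses.mk_eq_mk_iff_isConj]
    refine isConj_iff.mpr ⟨ws, Matrix.SpecialLinearGroup.toGL_injective ?_⟩
    rw [map_mul, map_mul, map_inv, hws, ← ht C, ← ht D, hw]
    calc t D * k⁻¹ * (t C)⁻¹ * (t C * y * (t C)⁻¹) * (t D * k⁻¹ * (t C)⁻¹)⁻¹ =
        t D * (k⁻¹ * y * k) * (t D)⁻¹ := by group
      _ = t D * y * (t D)⁻¹ := by rw [hcomm]
  refine (Nat.card_le_card_of_injective _ hinj).trans (le_of_eq ?_)
  show Rg.index = _
  rw [IsCyclic.index_powMonoidHom_range, Nat.card_units, Nat.card_eq_fintype_card]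
  exact Nat.gcd_eq_right (Nat.gcd_dvd_left _ _)

end CfsgLib.SLClassNumber
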