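import Cfsg.Agent.Lib.SLClassNumber.Norms

/-!
Tuples of polynomials of bounded weight with prescribed determinant, weighted by the gcd of their support.
-/

set_option autoImplicit false

namespace CfsgLib.SLClassNumber

open Polynomial CfsgLib.GLClassNumber

universe u

variable {F : Type u} [Field F] [Fintype F] {L m : ℕ}

/-- The weights carrying a nontrivial polynomial. -/
noncomputable def support (T : Tuple F L m) : Finset ℕ :=
  ((Finset.univ : Finset (Fin L)).filter fun j => 0 < (T.1 j).natDegree).image fun j : Fin L => (j : ℕ) + 1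

/-- The weight of a tuple. -/
noncomputable def tGcd (T : Tuple F L m) : ℕ :=
  Nat.gcd (Fintype.card F - 1) ((support T).gcd id)

/-- The determinant attached to a tuple, with a sign depending on degrees. -/
noncomputable def tDet (σ : ℕ → F) (T : Tuple F L m) : F :=
  ∏ j : Fin L, (σ (T.1 j).natDegree * (T.1 j).coeff 0) ^ ((j : ℕ) + 1)

/-- Rescale the constant term. -/
noncomputable def scale0 (c : Fˣ) (p : F[X]) : F[X] :=
  if 0 < p.natDegree then p + C (((c : F) - 1) * p.coeff 0) else p

theorem natDegree_scale0 (c : Fˣ) (p : F[X]) : (scale0 c p).natDegree = p.natDegree := by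
  rw [scale0]; split_ifs
  · exact natDegree_add_C
  · rfl

theorem coeff_zero_scale0 (c : Fˣ) (p : F[X]) :
    (scale0 c p).coeff 0 = (if 0 < p.natDegree then (c : F) else 1) * p.coeff 0 := by
  rw [scale0]; split_ifs
  · rw [coeff_add, coeff_C_zero]; ring
  · rw [one_mul]

theorem monic_scale0 (c : Fˣ) {p : F[X]} (hp : p.Monic) : (scale0 c p).Monic := by
  rw [scale0]; split_ifs with h
  · exact hp.add_of_left (lt_of_le_of_lt degree_C_le (natDegree_pos_iff_degree_pos.mp h))
  · exact hp

theorem scale0_scale0 (a b : Fˣ) (p : F[X]) : scale0 a (scale0 b p) = scale0 (a * b) p := by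
  by_cases h : 0 < p.natDegree
  · rw [scale0, if_pos (by rwa [natDegree_scale0]), coeff_zero_scale0, if_pos h, scale0, if_pos h,
      scale0, if_pos h, add_assoc, ← C_add, Units.val_mul]
    congr 2
    ring
  · rw [scale0, if_neg (by rwa [natDegree_scale0]), scale0, if_neg h, scale0, if_neg h]

theorem scale0_one (p : F[X]) : scale0 (1 : Fˣ) p = p := by
  rw [scale0]; split_ifs <;> simp

/-- Rescale all constant terms of a tuple. -/
noncomputable def actT (c : Fin L → Fˣ) (T : Tuple F L m) : Tuple F L m :=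
  ⟨fun j => scale0 (c j) (T.1 j), fun j => ⟨monic_scale0 _ (T.2.1 j).1, by
    rw [coeff_zero_scale0]
    refine mul_ne_zero ?_ (T.2.1 j).2
    split_ifs <;> simp⟩, by
    simp only [natDegree_scale0]; exact T.2.2⟩

theorem tGcd_actT (c : Fin L → Fˣ) (T : Tuple F L m) : tGcd (actT c T) = tGcd T := by
  rw [tGcd, tGcd, support, support]
  simp only [actT, natDegree_scale0]

/-- The character of the rescaling. -/
noncomputable def tChar (T : Tuple F L m) : (Fin L → Fˣ) →* Fˣ where
  toFun c := ∏ j, (if 0 < (T.1 j).natDegree then c j else 1) ^ ((j : ℕ) + 1)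
  map_one' := by simp
  map_mul' a b := by
    rw [← Finset.prod_mul_distrib]
    refine Finset.prod_congr rfl fun j _ => ?_
    rw [← mul_pow]
    split_ifs <;> simp

theorem tDet_actT (σ : ℕ → F) (c : Fin L → Fˣ) (T : Tuple F L m) :
    tDet σ (actT c T) = (tChar T c : Fˣ) * tDet σ T := by
  rw [tDet, tDet, tChar, MonoidHom.coe_mk, OneHom.coe_mk, Units.coe_prod, ← Finset.prod_mul_distrib]
  refine Finset.prod_congr rfl fun j _ => ?_
  simp only [actT, natDegree_scale0, coeff_zero_scale0]
  rw [Units.val_pow_eq_pow_val, ← mul_pow]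
  split_ifs <;> simp [mul_left_comm]

theorem card_ker_tChar (T : Tuple F L m) :
    Nat.card (tChar T).ker * (Fintype.card F - 1) ≤ (Fintype.card F - 1) ^ L * tGcd T := by
  classical
  have hle : (powMonoidHom (tGcd T) : Fˣ →* Fˣ).range ≤ (tChar T).range := by
    rintro x ⟨c, rfl⟩
    rw [powMonoidHom_apply, tGcd, ← zpow_natCast, Nat.gcd_eq_gcd_ab, zpow_add, zpow_mul, zpow_mul,
      zpow_natCast, zpow_natCast]
    refine Subgroup.mul_mem _ ?_ (Subgroup.zpow_mem _ ?_ _)
    · rw [← Fintype.card_units, pow_card_eq_one, one_zpow]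
      exact Subgroup.one_mem _
    · have h := pow_gcd_mem (tChar T).range (support T).val c fun a ha => by
        simp only [support, Finset.mem_val, Finset.mem_image, Finset.mem_filter, Finset.mem_univ,
          true_and] at ha
        obtain ⟨j, hj, rfl⟩ := ha
        refine ⟨Function.update (1 : Fin L → Fˣ) j c, ?_⟩
        show ∏ i, (if 0 < (T.1 i).natDegree then Function.update (1 : Fin L → Fˣ) j c i else 1) ^ ((i : ℕ) + 1) = _
        rw [Finset.prod_eq_single j]
        · simp [hj]
        · intro i _ hi; simp [hi]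
        · simp
      simpa [Finset.gcd_def] using h
  have h1 := Subgroup.card_mul_index (tChar T).ker
  rw [Subgroup.index_ker] at h1
  have h2 : Nat.card (powMonoidHom (tGcd T) : Fˣ →* Fˣ).range * tGcd T = Fintype.card F - 1 := by
    rw [IsCyclic.card_powMonoidHom_range, Nat.card_units, Nat.card_eq_fintype_card,
      Nat.gcd_eq_right (show tGcd T ∣ Fintype.card F - 1 from Nat.gcd_dvd_left _ _)]
    exact Nat.div_mul_cancel (Nat.gcd_dvd_left _ _)
  have h3 : Nat.card (Fin L → Fˣ) = (Fintype.card F - 1) ^ L := by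
    rw [Nat.card_fun, Nat.card_units, Nat.card_eq_fintype_card, Nat.card_fin]
  rw [← h3, ← h1, ← h2, mul_assoc (Nat.card (tChar T).ker)]
  exact Nat.mul_le_mul_left _ (Nat.mul_le_mul_right _ (Subgroup.card_le_of_le hle))

theorem card_fibre_tChar (T : Tuple F L m) (σ : ℕ → F) :
    Nat.card {c : Fin L → Fˣ // tDet σ (actT c T) = 1} ≤ Nat.card (tChar T).ker := by
  rcases isEmpty_or_nonempty {c : Fin L → Fˣ // tDet σ (actT c T) = 1} with h | ⟨⟨c₀, hc₀⟩⟩
  · simp
  refine Nat.card_le_card_of_injective (fun c => ⟨c₀⁻¹ * c.1, ?_⟩)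
    (fun a b h => Subtype.ext (mul_left_cancel (congrArg Subtype.val h)))
  have h0 := hc₀
  have h := c.2
  rw [tDet_actT] at h0 h
  rw [MonoidHom.mem_ker, map_mul, map_inv, inv_mul_eq_one]
  have hne : tDet σ T ≠ 0 := fun h' => by rw [h', mul_zero] at h0; exact zero_ne_one h0
  exact Units.ext (mul_right_cancel₀ hne (h0.trans h.symm))

open Classical in
/-- Equidistribution. -/
theorem weighted_count [Fintype (Tuple F L m)] (σ : ℕ → F) :
    (Fintype.card F - 1) * ∑ T ∈ Finset.univ.filter (fun T : Tuple F L m => tDet σ T = 1), tGcd T ≤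
      ∑ T : Tuple F L m, tGcd T ^ 2 := by
  have hpos : 0 < (Fintype.card F - 1) ^ L :=
    pow_pos (Nat.sub_pos_of_lt Fintype.one_lt_card) _
  refine Nat.le_of_mul_le_mul_left ?_ hpos
  let e : (Fin L → Fˣ) × Tuple F L m ≃ (Fin L → Fˣ) × Tuple F L m :=
    { toFun := fun z => (z.1, actT z.1 z.2)
      invFun := fun z => (z.1, actT z.1⁻¹ z.2)
      left_inv := fun z => by
        refine Prod.ext rfl (Subtype.ext (funext fun j => ?_))
        show scale0 (z.1⁻¹ j) (scale0 (z.1 j) (z.2.1 j)) = _
        rw [scale0_scale0, Pi.inv_apply, inv_mul_cancel, scale0_one]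
      right_inv := fun z => by
        refine Prod.ext rfl (Subtype.ext (funext fun j => ?_))
        show scale0 (z.1 j) (scale0 (z.1⁻¹ j) (z.2.1 j)) = _
        rw [scale0_scale0, Pi.inv_apply, mul_inv_cancel, scale0_one] }
  have h1 : ∑ z : (Fin L → Fˣ) × Tuple F L m, (if tDet σ (actT z.1 z.2) = 1 then tGcd z.2 else 0) =
      (Fintype.card F - 1) ^ L * ∑ T ∈ Finset.univ.filter (fun T : Tuple F L m => tDet σ T = 1), tGcd T := by
    refine (Fintype.sum_equiv e _ (fun z => if tDet σ z.2 = 1 then tGcd z.2 else 0) fun z => by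
      show _ = if tDet σ (actT z.1 z.2) = 1 then tGcd (actT z.1 z.2) else 0
      rw [tGcd_actT]).trans ?_
    rw [Fintype.sum_prod_type]
    simp only [Finset.sum_const, Finset.card_univ, smul_eq_mul]
    rw [Finset.sum_filter, Fintype.card_fun, Fintype.card_units, Fintype.card_fin]
  calc (Fintype.card F - 1) ^ L * ((Fintype.card F - 1) *
        ∑ T ∈ Finset.univ.filter (fun T : Tuple F L m => tDet σ T = 1), tGcd T)
      = (Fintype.card F - 1) *
          ∑ z : (Fin L → Fˣ) × Tuple F L m, (if tDet σ (actT z.1 z.2) = 1 then tGcd z.2 else 0) := by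
        rw [h1]; ring
    _ = ∑ T : Tuple F L m, tGcd T *
          (Nat.card {c : Fin L → Fˣ // tDet σ (actT c T) = 1} * (Fintype.card F - 1)) := by
        rw [Fintype.sum_prod_type, Finset.sum_comm, Finset.mul_sum]
        refine Finset.sum_congr rfl fun T _ => ?_
        rw [← Finset.sum_filter]
        simp only [Finset.sum_const, smul_eq_mul]
        rw [Nat.card_eq_fintype_card, Fintype.card_subtype]
        ring
    _ ≤ ∑ T : Tuple F L m, tGcd T * ((Fintype.card F - 1) ^ L * tGcd T) :=
        Finset.sum_le_sum fun T _ => Nat.mul_le_mul_left _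
          ((Nat.mul_le_mul_right _ (card_fibre_tChar T σ)).trans (card_ker_tChar T))
    _ = (Fintype.card F - 1) ^ L * ∑ T : Tuple F L m, tGcd T ^ 2 := by
        rw [Finset.mul_sum]; exact Finset.sum_congr rfl fun T _ => by ring

/-- Weights: `e ^ 2 ≤ 1 + ∑_{d ∣ e, 2 ≤ d} wt d`. -/
def wt (d : ℕ) : ℕ := if d = 4 then 12 else d ^ 2 - 1

/-- The divisors that occur. -/
def dset (q m : ℕ) : Finset ℕ := (Finset.Icc 2 m).filter fun d => d ∣ q - 1 ∧ d ∣ m

theorem tGcd_dvd_weight (T : Tuple F L m) : tGcd T ∣ m := by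
  refine (Nat.gcd_dvd_right _ _).trans ?_
  conv_rhs => rw [← T.2.2]
  refine Finset.dvd_sum fun j _ => ?_
  rcases Nat.eq_zero_or_pos (T.1 j).natDegree with h | h
  · rw [h, mul_zero]; exact dvd_zero _
  · exact (Finset.gcd_dvd (f := id) (Finset.mem_image.mpr ⟨j, by simp [h], rfl⟩)).mul_right _

theorem sq_le_wt {e q m : ℕ} (hm : 0 < m) (hem : e ∣ m) (heq : e ∣ q - 1) :
    e ^ 2 ≤ 1 + ∑ d ∈ (dset q m).filter (fun d => d ∣ e), wt d := by
  rcases Nat.lt_or_ge e 2 with h | h
  · interval_cases e <;> simp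
  have hmem : ∀ d, 2 ≤ d → d ∣ e → d ∈ (dset q m).filter (fun d => d ∣ e) := fun d h2 hd => by
    simp only [dset, Finset.mem_filter, Finset.mem_Icc]
    exact ⟨⟨⟨h2, Nat.le_of_dvd hm (hd.trans hem)⟩, hd.trans heq, hd.trans hem⟩, hd⟩
  by_cases h4 : e = 4
  · subst h4
    refine le_trans ?_ (Nat.add_le_add_left (Finset.sum_le_sum_of_subset (s := ({2, 4} : Finset ℕ))
      fun d hd => ?_) 1)
    · norm_num [wt]
    · simp only [Finset.mem_insert, Finset.mem_singleton] at hd
      rcases hd with rfl | rfl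
      · exact hmem 2 le_rfl (by norm_num)
      · exact hmem 4 (by norm_num) dvd_rfl
  · refine le_trans ?_ (Nat.add_le_add_left (Finset.single_le_sum (fun d _ => Nat.zero_le _) (hmem e h dvd_rfl)) 1)
    rw [wt, if_neg h4]
    omega

/-- Number of tuples. -/
noncomputable def nTuple (F : Type u) [Field F] (L m : ℕ) : ℕ := Nat.card (Tuple F L m)

theorem card_dvd_support_le (L m d : ℕ) (hd : 0 < d) :
    Nat.card {T : Tuple F L m // ∀ j : Fin L, 0 < (T.1 j).natDegree → d ∣ (j : ℕ) + 1} ≤ nTuple F L (m / d) := by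
  classical
  have hfin := (tuple_card_le (F := F) L (m / d)).1
  let g : {T : Tuple F L m // ∀ j : Fin L, 0 < (T.1 j).natDegree → d ∣ (j : ℕ) + 1} → Fin L → F[X] :=
    fun T k => if h : d * ((k : ℕ) + 1) - 1 < L then T.1.1 ⟨d * ((k : ℕ) + 1) - 1, h⟩ else 1
  have hw : ∀ T, d * ∑ k : Fin L, ((k : ℕ) + 1) * (g T k).natDegree = m := fun T => by
    conv_rhs => rw [← T.1.2.2]
    rw [Finset.mul_sum]
    refine Finset.sum_bij_ne_zero
      (fun k _ hk => ⟨d * ((k : ℕ) + 1) - 1, by
        by_contra hc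
        simp [g, dif_neg hc] at hk⟩)
      (fun k _ _ => Finset.mem_univ _) (fun a _ _ b _ _ hab => by
        have h1 := congrArg Fin.val hab
        simp only at h1
        have ha : 1 ≤ d * ((a : ℕ) + 1) := Nat.mul_pos hd (Nat.succ_pos _)
        have hb : 1 ≤ d * ((b : ℕ) + 1) := Nat.mul_pos hd (Nat.succ_pos _)
        have h2 : d * ((a : ℕ) + 1) = d * ((b : ℕ) + 1) := by omega
        exact Fin.ext (by have := Nat.eq_of_mul_eq_mul_left hd h2; omega))
      (fun j _ hj => ?_) (fun k _ hk => ?_)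
    · have hdeg : 0 < (T.1.1 j).natDegree := Nat.pos_of_ne_zero fun h => hj (by rw [h, mul_zero])
      obtain ⟨c, hc⟩ := T.2 j hdeg
      have hc0 : 0 < c := Nat.pos_of_ne_zero fun h => by simp [h] at hc
      have hcL : c ≤ L := le_trans (Nat.le_mul_of_pos_left c hd) (by have := j.2; omega)
      have e : (⟨d * (c - 1 + 1) - 1, by rw [show c - 1 + 1 = c by omega, ← hc]; simp⟩ : Fin L) = j :=
        Fin.ext (by simp only [show c - 1 + 1 = c by omega, ← hc]; simp)
      refine ⟨⟨c - 1, by omega⟩, Finset.mem_univ _, ?_, e⟩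
      have h : d * (c - 1 + 1) - 1 < L := by rw [show c - 1 + 1 = c by omega, ← hc]; simp
      simp only [g, dif_pos h, e]
      exact mul_ne_zero hd.ne' (mul_ne_zero (Nat.succ_ne_zero _) hdeg.ne')
    · by_cases h : d * ((k : ℕ) + 1) - 1 < L
      · simp only [g, dif_pos h]
        rw [← mul_assoc, Nat.sub_add_cancel (Nat.mul_pos hd (Nat.succ_pos _))]
      · simp [g, dif_neg h] at hk
  refine Nat.card_le_card_of_injective (fun T => (⟨g T, fun k => ?_, ?_⟩ : Tuple F L (m / d))) ?_
  · simp only [g]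
    split_ifs with h
    · exact T.1.2.1 _
    · simp
  · rw [← hw T, Nat.mul_div_cancel_left _ hd]
  · intro A B hAB
    refine Subtype.ext (Subtype.ext (funext fun j => ?_))
    by_cases hjd : d ∣ (j : ℕ) + 1
    · obtain ⟨c, hc⟩ := hjd
      have hc0 : 0 < c := Nat.pos_of_ne_zero fun h => by simp [h] at hc
      have hcL : c ≤ L := le_trans (Nat.le_mul_of_pos_left c hd) (by have := j.2; omega)
      have h1 : g A ⟨c - 1, by omega⟩ = g B ⟨c - 1, by omega⟩ :=
        congrFun (congrArg Subtype.val hAB) _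
      have e : d * (c - 1 + 1) - 1 = (j : ℕ) := by rw [show c - 1 + 1 = c by omega, ← hc]; simp
      simp only [g, e, j.2, dif_pos, Fin.eta] at h1
      exact h1
    · have hA : (A.1.1 j).natDegree = 0 := Nat.eq_zero_of_not_pos fun h => hjd (A.2 j h)
      have hB : (B.1.1 j).natDegree = 0 := Nat.eq_zero_of_not_pos fun h => hjd (B.2 j h)
      rw [eq_one_of_monic_natDegree_zero (A.1.2.1 j).1 hA, eq_one_of_monic_natDegree_zero (B.1.2.1 j).1 hB]

/-- The bound on `∑ e ^ 2`. -/
noncomputable def bound (F : Type u) [Field F] [Fintype F] (L m : ℕ) : ℕ :=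
  nTuple F L m + ∑ d ∈ dset (Fintype.card F) m, wt d * nTuple F L (m / d)

open Classical in
theorem sum_sq_le [Fintype (Tuple F L m)] (hm : 0 < m) : ∑ T : Tuple F L m, tGcd T ^ 2 ≤ bound F L m := by
  calc ∑ T : Tuple F L m, tGcd T ^ 2
      ≤ ∑ T : Tuple F L m, (1 + ∑ d ∈ (dset (Fintype.card F) m).filter (fun d => d ∣ tGcd T), wt d) :=
        Finset.sum_le_sum fun T _ => sq_le_wt hm (tGcd_dvd_weight T) (Nat.gcd_dvd_left _ _)
    _ = nTuple F L m + ∑ d ∈ dset (Fintype.card F) m,
          wt d * (Finset.univ.filter fun T : Tuple F L m => d ∣ tGcd T).card := by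
        rw [Finset.sum_add_distrib, nTuple, Nat.card_eq_fintype_card]
        congr 1
        · simp
        · simp only [Finset.sum_filter]
          rw [Finset.sum_comm]
          refine Finset.sum_congr rfl fun d _ => ?_
          rw [← Finset.sum_filter, Finset.sum_const, smul_eq_mul, mul_comm]
    _ ≤ bound F L m := by
        refine Nat.add_le_add_left (Finset.sum_le_sum fun d hd => Nat.mul_le_mul_left _ ?_) _
        have hd2 : 2 ≤ d := (Finset.mem_Icc.mp (Finset.mem_filter.mp hd).1).1
        refine le_trans ?_ (card_dvd_support_le (F := F) L m d (by omega))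
        rw [Nat.card_eq_fintype_card, Fintype.card_subtype]
        refine Finset.card_le_card fun T hT => ?_
        simp only [Finset.mem_filter, Finset.mem_univ, true_and] at hT ⊢
        intro j hj
        exact hT.trans ((Nat.gcd_dvd_right _ _).trans
          (Finset.gcd_dvd (f := id) (Finset.mem_image.mpr ⟨j, by simp [hj], rfl⟩)))

/-! ### Sizes -/

theorem tupleCount_succ_of_lt (q : ℕ) {L m : ℕ} (h : m < L + 1) :
    tupleCount q (L + 1) m = tupleCount q L m := by
  rw [tupleCount, Nat.div_eq_of_lt h]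
  simp [bCount]

theorem tupleCount_stable (q : ℕ) (m : ℕ) : ∀ L, m ≤ L → tupleCount q L m = tupleCount q m m := by
  intro L
  induction L with
  | zero => intro h; rw [Nat.le_zero.mp h]
  | succ L ih =>
    intro h
    rcases Nat.lt_or_ge m (L + 1) with h1 | h1
    · rw [tupleCount_succ_of_lt q h1, ih (by omega)]
    · rw [show m = L + 1 by omega]

theorem nTuple_le_pow (L m : ℕ) : nTuple F L m ≤ Fintype.card F ^ m := by
  refine ((tuple_card_le (F := F) L m).2).trans ?_
  rcases Nat.eq_zero_or_pos m with rfl | hm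
  · rw [tupleCount_at_zero, pow_zero]
  rcases L with _ | L
  · simp [tupleCount, hm.ne']
  have h := tupleCount_bound_aux (Fintype.card F) Fintype.one_lt_card L m hm
  have h2 : (0 : ℚ) ≤ ((Fintype.card F : ℚ)⁻¹) ^ (L + 1) := by positivity
  have h3 : (tupleCount (Fintype.card F) (L + 1) m : ℚ) ≤ (Fintype.card F : ℚ) ^ m :=
    h.trans (mul_le_of_le_one_right (by positivity) (by linarith))
  exact_mod_cast h3

theorem nTuple_small (L : ℕ) :
    (1 ≤ L → nTuple F L 1 ≤ Fintype.card F - 1) ∧ (2 ≤ L → nTuple F L 2 ≤ Fintype.card F ^ 2 - 1) ∧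
      (3 ≤ L → nTuple F L 3 ≤ Fintype.card F ^ 3 - Fintype.card F) := by
  obtain ⟨r, hr⟩ : ∃ r, Fintype.card F = r + 2 :=
    ⟨Fintype.card F - 2, by have := Fintype.one_lt_card (α := F); omega⟩
  refine ⟨fun h => ?_, fun h => ?_, fun h => ?_⟩
  all_goals
    refine ((tuple_card_le (F := F) L _).2).trans ?_
    rw [tupleCount_stable _ _ _ h, hr]
  · simp [tupleCount, bCount, Finset.sum_range_succ]
  · simp [tupleCount, bCount, Finset.sum_range_succ]
    rw [show (r + 2) ^ 2 - 1 = r ^ 2 + 4 * r + 3 by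
      rw [show (r + 2) ^ 2 = r ^ 2 + 4 * r + 3 + 1 by ring, Nat.add_sub_cancel]]
    nlinarith
  · simp [tupleCount, bCount, Finset.sum_range_succ]
    rw [show (r + 2) ^ 3 - (r + 2) = r ^ 3 + 6 * r ^ 2 + 11 * r + 6 by
      rw [show (r + 2) ^ 3 = r ^ 3 + 6 * r ^ 2 + 11 * r + 6 + (r + 2) by ring, Nat.add_sub_cancel]]
    nlinarith

end CfsgLib.SLClassNumber
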